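import Mathlib

/-!
# Étale neighbourhoods realizing a finite separable residue field extension (ring level)
-/

set_option autoImplicit false
set_option linter.unusedSectionVars false

open Polynomial

namespace Groth.Agent.Lib.Helper6.EtLoc

universe u

/-- A monic polynomial over `κ(p)` lifts to a monic polynomial over a localization `R_b`,
`b ∉ p`. -/
theorem exists_away_lift_monic (R : Type u) [CommRing R] (p : Ideal R) [p.IsPrime]
    (m : p.ResidueField[X]) (hm : m.Monic) :
    ∃ (b : R) (_ : b ∉ p) (ev : Localization.Away b →+* p.ResidueField),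
      ev.comp (algebraMap R (Localization.Away b)) = algebraMap R p.ResidueField ∧
      ∃ q : (Localization.Away b)[X], q.map ev = m ∧ q.Monic := by
  classical
  obtain ⟨b', hb'⟩ := IsLocalization.exist_integer_multiples_of_finset (nonZeroDivisors (R ⧸ p))
    (Finset.image m.coeff (Finset.range (m.natDegree + 1)))
  obtain ⟨b, hb⟩ := Ideal.Quotient.mk_surjective (b' : R ⧸ p)
  have hbp : b ∉ p := by
    intro hmem
    have h0 : (b' : R ⧸ p) = 0 := by rw [← hb]; exact Ideal.Quotient.eq_zero_iff_mem.mpr hmem
    exact nonZeroDivisors.ne_zero b'.2 h0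
  have hbK : algebraMap R p.ResidueField b ≠ 0 := by
    rw [Ne, Ideal.algebraMap_residueField_eq_zero]; exact hbp
  have hunit : IsUnit (algebraMap R p.ResidueField b) := hbK.isUnit
  let ev : Localization.Away b →+* p.ResidueField := IsLocalization.Away.lift b hunit
  have hev : ev.comp (algebraMap R (Localization.Away b)) = algebraMap R p.ResidueField :=
    IsLocalization.Away.lift_comp b hunit
  have hev' : ∀ r, ev (algebraMap R (Localization.Away b) r) = algebraMap R p.ResidueField r :=
    fun r => congrArg (fun φ : R →+* p.ResidueField => φ r) hev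
  refine ⟨b, hbp, ev, hev, ?_⟩
  have hlifts : m ∈ lifts ev := by
    rw [lifts_iff_coeff_lifts]
    intro n
    by_cases hn : n ≤ m.natDegree
    · obtain ⟨a', ha'⟩ := hb' (m.coeff n) (Finset.mem_image.mpr
        ⟨n, Finset.mem_range.mpr (Nat.lt_succ_of_le hn), rfl⟩)
      obtain ⟨a, ha⟩ := Ideal.Quotient.mk_surjective a'
      have h1 : algebraMap R p.ResidueField a = algebraMap R p.ResidueField b * m.coeff n := by
        have h2 : algebraMap (R ⧸ p) p.ResidueField a' = (b' : R ⧸ p) • m.coeff n := ha'
        rw [← ha, ← hb, Algebra.smul_def] at h2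
        exact h2
      refine ⟨IsLocalization.mk' (Localization.Away b) a
        (⟨b, Submonoid.mem_powers b⟩ : Submonoid.powers b), ?_⟩
      have h3 : ev (IsLocalization.mk' (Localization.Away b) a
          (⟨b, Submonoid.mem_powers b⟩ : Submonoid.powers b)) * algebraMap R p.ResidueField b =
          algebraMap R p.ResidueField a := by
        rw [← hev' b, ← map_mul, IsLocalization.mk'_spec, hev']
      rw [h1, mul_comm] at h3
      exact mul_left_cancel₀ hbK h3
    · push Not at hn
      rw [coeff_eq_zero_of_natDegree_lt hn]
      exact ⟨0, map_zero _⟩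
  obtain ⟨q, hq, -, hqm⟩ := lifts_and_degree_eq_and_monic hlifts hm
  exact ⟨q, hq, hqm⟩


/-- Stacks 00UD: an étale neighbourhood realizing a given finite separable extension of the
residue field. -/
theorem exists_etale_residueField_equiv (R : Type u) [CommRing R] (p : Ideal R) [p.IsPrime]
    (L : Type u) [Field L] [Algebra p.ResidueField L] [FiniteDimensional p.ResidueField L]
    [Algebra.IsSeparable p.ResidueField L] :
    ∃ (R' : Type u) (_ : CommRing R') (_ : Algebra R R') (_ : Algebra.Etale R R')
      (p' : Ideal R') (_ : p'.IsPrime) (hp : p'.comap (algebraMap R R') = p)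
      (e : p'.ResidueField ≃+* L), ∀ c : p.ResidueField,
        e (Ideal.ResidueField.map p p' (algebraMap R R') hp.symm c) =
          algebraMap p.ResidueField L c := by
  classical
  let pb := Field.powerBasisOfFiniteOfSeparable p.ResidueField L
  have hsep : (minpoly p.ResidueField pb.gen).Separable :=
    Algebra.IsSeparable.isSeparable p.ResidueField pb.gen
  have hmonic : (minpoly p.ResidueField pb.gen).Monic :=
    minpoly.monic (Algebra.IsIntegral.isIntegral pb.gen)
  obtain ⟨b, hbp, ev, hev, q, hq, hqm⟩ :=
    exists_away_lift_monic R p (minpoly p.ResidueField pb.gen) hmonic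
  -- algebra structures
  let _ : Algebra (Localization.Away b) p.ResidueField := ev.toAlgebra
  let _ : Algebra (Localization.Away b) L :=
    ((algebraMap p.ResidueField L).comp ev).toAlgebra
  have hst : IsScalarTower (Localization.Away b) p.ResidueField L :=
    IsScalarTower.of_algebraMap_eq fun _ => rfl
  let P : StandardEtalePair (Localization.Away b) :=
    { f := q, monic_f := hqm, g := derivative q, cond := ⟨1, 0, 1, by simp⟩ }
  have hmap : q.map (algebraMap (Localization.Away b) p.ResidueField) =
      minpoly p.ResidueField pb.gen := hq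
  have h1 : aeval pb.gen q = 0 := by
    rw [← aeval_map_algebraMap p.ResidueField, hmap, minpoly.aeval]
  have h2 : aeval pb.gen (derivative q) ≠ 0 := by
    rw [← aeval_map_algebraMap p.ResidueField, ← derivative_map, hmap]
    exact hsep.aeval_derivative_ne_zero (minpoly.aeval _ _)
  have hHas : P.HasMap pb.gen := ⟨h1, h2.isUnit⟩
  let ρ : P.Ring →ₐ[Localization.Away b] L := P.lift pb.gen hHas
  have hρX : ρ P.X = pb.gen := P.lift_X pb.gen hHas
  let _ : Algebra R P.Ring := Algebra.compHom P.Ring (algebraMap R (Localization.Away b))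
  have hst2 : IsScalarTower R (Localization.Away b) P.Ring :=
    IsScalarTower.of_algebraMap_eq fun _ => rfl
  have het : Algebra.Etale R P.Ring := Algebra.Etale.comp R (Localization.Away b) P.Ring
  have hρR : ∀ r : R, ρ (algebraMap R P.Ring r) =
      algebraMap p.ResidueField L (algebraMap R p.ResidueField r) := by
    intro r
    rw [IsScalarTower.algebraMap_apply R (Localization.Away b) P.Ring, AlgHom.commutes]
    show algebraMap p.ResidueField L (ev (algebraMap R (Localization.Away b) r)) = _
    congr 1
    exact congrArg (fun φ : R →+* p.ResidueField => φ r) hev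
  have hp'prime : (RingHom.ker ρ.toRingHom).IsPrime := RingHom.ker_isPrime _
  have hp : (RingHom.ker ρ.toRingHom).comap (algebraMap R P.Ring) = p := by
    ext r
    rw [Ideal.mem_comap, RingHom.mem_ker]
    show ρ (algebraMap R P.Ring r) = 0 ↔ _
    rw [hρR, map_eq_zero_iff _ (algebraMap p.ResidueField L).injective,
      Ideal.algebraMap_residueField_eq_zero]
  let ψ : (RingHom.ker ρ.toRingHom).ResidueField →+* L :=
    Ideal.ResidueField.lift (RingHom.ker ρ.toRingHom) ρ.toRingHom le_rfl (by
      intro x hx
      rw [Submonoid.mem_comap, IsUnit.mem_submonoid_iff]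
      have : ρ.toRingHom x ≠ 0 := fun h => hx h
      exact this.isUnit)
  have hψ : ∀ x : P.Ring, ψ (algebraMap P.Ring _ x) = ρ x := fun x =>
    Ideal.ResidueField.lift_algebraMap _ _ _ _ x
  have hcompat : ∀ c : p.ResidueField,
      ψ (Ideal.ResidueField.map p (RingHom.ker ρ.toRingHom) (algebraMap R P.Ring) hp.symm c) =
        algebraMap p.ResidueField L c := by
    intro c
    have : ψ.comp (Ideal.ResidueField.map p (RingHom.ker ρ.toRingHom) (algebraMap R P.Ring)
        hp.symm) = algebraMap p.ResidueField L := by
      apply Ideal.ResidueField.ringHom_ext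
      ext r
      simp only [RingHom.comp_apply]
      rw [Ideal.ResidueField.map_algebraMap, hψ, hρR]
    exact congrArg (fun φ : p.ResidueField →+* L => φ c) this
  have hinj : Function.Injective ψ := ψ.injective
  have hsurj : Function.Surjective ψ := by
    let A : Subalgebra p.ResidueField L :=
      { ψ.range.toSubsemiring with
        algebraMap_mem' := fun c => ⟨_, hcompat c⟩ }
    have hgen : pb.gen ∈ A := ⟨algebraMap P.Ring _ P.X, by rw [hψ, hρX]⟩
    have htop : A = ⊤ := by
      rw [eq_top_iff, ← pb.adjoin_gen_eq_top]
      exact Algebra.adjoin_le (Set.singleton_subset_iff.mpr hgen)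
    intro y
    have hy : y ∈ A := by rw [htop]; trivial
    obtain ⟨x, hx⟩ := hy
    exact ⟨x, hx⟩
  exact ⟨P.Ring, inferInstance, inferInstance, het, RingHom.ker ρ.toRingHom, hp'prime, hp,
    RingEquiv.ofBijective ψ ⟨hinj, hsurj⟩, hcompat⟩

end Groth.Agent.Lib.Helper6.EtLoc
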