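import Mathlib

/-!
# Affine chart data at a point, and isolation of a quasi-finite point in its fibre
-/

set_option autoImplicit false
set_option linter.unusedSectionVars false
universe u

open CategoryTheory Limits AlgebraicGeometry TensorProduct

namespace Groth.Agent.Lib.Helper6.EtLoc

/-- Affine chart data around a point `x₀` of an open `W ⊆ X`, over an affine open of `S`. -/
theorem exists_chart_data {X S : Scheme.{u}} (f : X ⟶ S) (x₀ : X) (W : X.Opens) (hx₀ : x₀ ∈ W) :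
    ∃ (R B₀ : Type u) (_ : CommRing R) (_ : CommRing B₀) (_ : Algebra R B₀)
      (jS : Spec (.of R) ⟶ S) (jX : Spec (.of B₀) ⟶ X) (_ : IsOpenImmersion jS)
      (_ : IsOpenImmersion jX)
      (_ : Spec.map (CommRingCat.ofHom (algebraMap R B₀)) ≫ jS = jX ≫ f)
      (q₀ : PrimeSpectrum B₀), jX q₀ = x₀ ∧ Set.range jX ⊆ W ∧
      (∀ (P : MorphismProperty Scheme.{u})
        (Q : ∀ {R S : Type u} [CommRing R] [CommRing S], (R →+* S) → Prop)
        [HasRingHomProperty P Q], P (W.ι ≫ f) → Q (algebraMap R B₀)) ∧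
      ((W.ι ≫ f).QuasiFiniteAt (⟨x₀, hx₀⟩ : W.toScheme) → (algebraMap R B₀).QuasiFiniteAt q₀.asIdeal) := by
  obtain ⟨_, ⟨U₀, hU₀m, rfl⟩, hsU₀, -⟩ := S.isBasis_affineOpens.exists_subset_of_mem_open
    (Set.mem_univ (f x₀)) isOpen_univ
  have hU₀ : IsAffineOpen U₀ := hU₀m
  let xW : W.toScheme := ⟨x₀, hx₀⟩
  have hxW : (W.ι ≫ f) xW ∈ U₀ := by
    rw [Scheme.Hom.comp_apply]
    exact hsU₀
  obtain ⟨_, ⟨V', hV'm, rfl⟩, hxV', hUV : V' ≤ (W.ι ≫ f) ⁻¹ᵁ U₀⟩ :=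
    W.toScheme.isBasis_affineOpens.exists_subset_of_mem_open hxW ((W.ι ≫ f) ⁻¹ᵁ U₀).2
  have hV' : IsAffineOpen V' := hV'm
  algebraize [((W.ι ≫ f).appLE U₀ V' hUV).hom]
  refine ⟨Γ(S, U₀), Γ(W, V'), inferInstance, inferInstance, inferInstance, hU₀.fromSpec,
    hV'.fromSpec ≫ W.ι, inferInstance, inferInstance, ?_, hV'.primeIdealOf ⟨xW, hxV'⟩, ?_, ?_, ?_,
    ?_⟩
  · rw [Category.assoc]
    exact IsAffineOpen.SpecMap_appLE_fromSpec (W.ι ≫ f) hU₀ hV' hUV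
  · change W.ι (hV'.fromSpec (hV'.primeIdealOf ⟨xW, hxV'⟩)) = x₀
    rw [hV'.fromSpec_primeIdealOf ⟨xW, hxV'⟩]
    rfl
  · rintro _ ⟨z, rfl⟩
    change W.ι (hV'.fromSpec z) ∈ W
    exact (hV'.fromSpec z).2
  · intro P Q _ hP
    exact HasRingHomProperty.appLE P (W.ι ≫ f) hP ⟨U₀, hU₀⟩ ⟨V', hV'⟩ hUV
  · intro hx
    exact hx.quasiFiniteAt hV' hU₀ hUV hxV'

/-- A quasi-finite prime is isolated in its fibre by a basic open. -/
theorem exists_isolating (R B₀ : Type u) [CommRing R] [CommRing B₀] [Algebra R B₀]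
    [Algebra.FiniteType R B₀] (q₀ : Ideal B₀) [hq₀ : q₀.IsPrime] [Algebra.QuasiFiniteAt R q₀] :
    ∃ b : B₀, b ∉ q₀ ∧ ∀ q' : Ideal B₀, q'.IsPrime → b ∉ q' →
      q'.comap (algebraMap R B₀) = q₀.comap (algebraMap R B₀) → q' = q₀ := by
  have h := (Algebra.quasiFiniteAt_iff_isOpen_singleton_fiber (R := R)
    (⟨q₀, hq₀⟩ : PrimeSpectrum B₀)).mp ‹_›
  rw [isOpen_induced_iff] at h
  obtain ⟨O, hO, hOq⟩ := h
  have hqO : (⟨q₀, hq₀⟩ : PrimeSpectrum B₀) ∈ O := by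
    have : (⟨⟨q₀, hq₀⟩, rfl⟩ : PrimeSpectrum.comap (algebraMap R B₀) ⁻¹'
        {PrimeSpectrum.comap (algebraMap R B₀) ⟨q₀, hq₀⟩}) ∈ Subtype.val ⁻¹' O := by
      rw [hOq]; rfl
    exact this
  obtain ⟨_, ⟨b, rfl⟩, hqb, hbO⟩ :=
    PrimeSpectrum.isTopologicalBasis_basic_opens.exists_subset_of_mem_open hqO hO
  refine ⟨b, hqb, fun q' hq' hbq' hcomap => ?_⟩
  have hfib : (⟨q', hq'⟩ : PrimeSpectrum B₀) ∈ PrimeSpectrum.comap (algebraMap R B₀) ⁻¹'
      {PrimeSpectrum.comap (algebraMap R B₀) ⟨q₀, hq₀⟩} := by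
    apply PrimeSpectrum.ext
    exact hcomap
  have hmem : (⟨⟨q', hq'⟩, hfib⟩ : PrimeSpectrum.comap (algebraMap R B₀) ⁻¹'
      {PrimeSpectrum.comap (algebraMap R B₀) ⟨q₀, hq₀⟩}) ∈ Subtype.val ⁻¹' O := hbO hbq'
  rw [hOq] at hmem
  exact congrArg (fun t => t.1.asIdeal) hmem

/-- After inverting the isolating element, `q₀` is the only prime over its contraction. -/
theorem isolated_away (R B₀ : Type u) [CommRing R] [CommRing B₀] [Algebra R B₀]
    (q₀ : Ideal B₀) [hq₀ : q₀.IsPrime] (b : B₀) (hb : b ∉ q₀)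
    (hiso : ∀ q' : Ideal B₀, q'.IsPrime → b ∉ q' →
      q'.comap (algebraMap R B₀) = q₀.comap (algebraMap R B₀) → q' = q₀)
    (q'' : Ideal (Localization.Away b)) (hq'' : q''.IsPrime)
    (h : q''.comap (algebraMap R (Localization.Away b)) = q₀.comap (algebraMap R B₀)) :
    q'' = q₀.map (algebraMap B₀ (Localization.Away b)) := by
  have h1 : (q''.comap (algebraMap B₀ (Localization.Away b))).IsPrime := inferInstance
  have h2 : b ∉ q''.comap (algebraMap B₀ (Localization.Away b)) := by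
    intro hmem
    have : IsUnit (algebraMap B₀ (Localization.Away b) b) :=
      IsLocalization.Away.algebraMap_isUnit b
    exact hq''.ne_top (Ideal.eq_top_of_isUnit_mem _ hmem this)
  have h3 := hiso _ h1 h2 (by
    rw [Ideal.comap_comap, ← IsScalarTower.algebraMap_eq]; exact h)
  rw [← h3, IsLocalization.map_under (Submonoid.powers b)]

end Groth.Agent.Lib.Helper6.EtLoc
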