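import Mathlib

/-!
# Affine charts of a base change `X ×_S Spec R'`

Given `f : X ⟶ S`, open immersions `jS : Spec R ⟶ S`, `jX : Spec B ⟶ X` compatible with a ring map
`R → B`, and an `R`-algebra `R'`, we construct the open immersion
`Spec (R' ⊗[R] B) ⟶ X ×_S Spec R'` and record its basic properties.
-/

set_option autoImplicit false
set_option linter.unusedSectionVars false
universe u

open CategoryTheory Limits AlgebraicGeometry TensorProduct

namespace Groth.Agent.Lib.Helper6.EtLoc

section Chart

variable {X S : Scheme.{u}} (f : X ⟶ S) (R B R' : Type u) [CommRing R] [CommRing B] [CommRing R']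
  [Algebra R B] [Algebra R R']
  (jS : Spec (.of R) ⟶ S) (jX : Spec (.of B) ⟶ X)
  (hcomm : Spec.map (CommRingCat.ofHom (algebraMap R B)) ≫ jS = jX ≫ f)

/-- The structure map `Spec R' ⟶ S`. -/
noncomputable abbrev baseMap : Spec (.of R') ⟶ S :=
  Spec.map (CommRingCat.ofHom (algebraMap R R')) ≫ jS

/-- The chart `Spec (R' ⊗[R] B) ⟶ X ×_S Spec R'`. -/
noncomputable def chart : Spec (.of (R' ⊗[R] B)) ⟶ pullback f (baseMap R R' jS) :=
  ((pullbackSpecIso R R' B).symm ≪≫ pullbackSymmetry _ _).hom ≫
    pullback.map _ _ _ _ jX (𝟙 _) jS hcomm (by simp)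

@[reassoc]
theorem chart_fst : chart f R B R' jS jX hcomm ≫ pullback.fst _ _ =
    Spec.map (CommRingCat.ofHom (Algebra.TensorProduct.includeRight :
      B →ₐ[R] R' ⊗[R] B).toRingHom) ≫ jX := by
  simp only [chart, Iso.trans_hom, Iso.symm_hom, Category.assoc, pullback.lift_fst,
    pullback.map]
  rw [pullbackSymmetry_hom_comp_fst_assoc]
  rw [pullbackSpecIso_inv_snd_assoc]
  rfl

@[reassoc]
theorem chart_snd : chart f R B R' jS jX hcomm ≫ pullback.snd _ _ =
    Spec.map (CommRingCat.ofHom (algebraMap R' (R' ⊗[R] B))) := by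
  simp only [chart, Iso.trans_hom, Iso.symm_hom, Category.assoc, pullback.lift_snd,
    pullback.map, Category.comp_id]
  rw [pullbackSymmetry_hom_comp_snd]
  exact pullbackSpecIso_inv_fst' ..

instance [IsOpenImmersion jS] [IsOpenImmersion jX] :
    IsOpenImmersion (chart f R B R' jS jX hcomm) := by
  unfold chart
  infer_instance

theorem range_chart [IsOpenImmersion jS] : Set.range (chart f R B R' jS jX hcomm) =
    pullback.fst f (baseMap R R' jS) ⁻¹' Set.range jX := by
  unfold chart
  rw [Scheme.Hom.comp_base, TopCat.coe_comp, Set.range_comp,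
    Set.range_eq_univ.mpr (by
      exact ((pullbackSpecIso R R' B).symm ≪≫ pullbackSymmetry _ _).hom.homeomorph.surjective),
    Set.image_univ, Scheme.Pullback.range_map]
  simp

theorem fst_chart_apply (z : ↑(Spec (.of (R' ⊗[R] B)))) :
    pullback.fst f (baseMap R R' jS) (chart f R B R' jS jX hcomm z) =
      jX (Spec.map (CommRingCat.ofHom (Algebra.TensorProduct.includeRight :
        B →ₐ[R] R' ⊗[R] B).toRingHom) z) := by
  rw [← Scheme.Hom.comp_apply, chart_fst, Scheme.Hom.comp_apply]

theorem snd_chart_apply (z : ↑(Spec (.of (R' ⊗[R] B)))) :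
    pullback.snd f (baseMap R R' jS) (chart f R B R' jS jX hcomm z) =
      Spec.map (CommRingCat.ofHom (algebraMap R' (R' ⊗[R] B))) z := by
  rw [← Scheme.Hom.comp_apply, chart_snd]

theorem exists_chart_eq [IsOpenImmersion jS] (w : ↑(pullback f (baseMap R R' jS)))
    (hw : pullback.fst f (baseMap R R' jS) w ∈ Set.range jX) :
    ∃ z, chart f R B R' jS jX hcomm z = w := by
  have : w ∈ Set.range (chart f R B R' jS jX hcomm) := by
    rw [range_chart]; exact hw
  exact this

section Piece

variable [IsOpenImmersion jS] [IsOpenImmersion jX] (e : R' ⊗[R] B)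

/-- The open piece of the base change cut out by `e`. -/
noncomputable def piece : (pullback f (baseMap R R' jS)).Opens :=
  (chart f R B R' jS jX hcomm) ''ᵁ PrimeSpectrum.basicOpen e

theorem mem_piece {w : ↑(pullback f (baseMap R R' jS))} :
    w ∈ piece f R B R' jS jX hcomm e ↔
      ∃ z : PrimeSpectrum (R' ⊗[R] B), e ∉ z.asIdeal ∧ chart f R B R' jS jX hcomm z = w := by
  constructor
  · rintro ⟨z, hz, rfl⟩
    exact ⟨z, hz, rfl⟩
  · rintro ⟨z, hz, rfl⟩
    exact ⟨z, hz, rfl⟩

variable (A : Type u) [CommRing A] [Algebra (R' ⊗[R] B) A] [Algebra R' A]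
  [IsScalarTower R' (R' ⊗[R] B) A] [IsLocalization.Away e A]

/-- The inclusion of `Spec (R' ⊗ B)_e` into the base change. -/
noncomputable def pieceMap :
    Spec (.of A) ⟶ pullback f (baseMap R R' jS) :=
  Spec.map (CommRingCat.ofHom (algebraMap (R' ⊗[R] B) A)) ≫
    chart f R B R' jS jX hcomm

include e in
theorem isOpenImmersion_pieceMap : IsOpenImmersion (pieceMap f R B R' jS jX hcomm A) := by
  unfold pieceMap
  have : IsOpenImmersion (Spec.map (CommRingCat.ofHom
      (algebraMap (R' ⊗[R] B) A))) :=
    IsOpenImmersion.of_isLocalization e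
  infer_instance

theorem opensRange_pieceMap :
    have := isOpenImmersion_pieceMap f R B R' jS jX hcomm e A
    (pieceMap f R B R' jS jX hcomm A).opensRange = piece f R B R' jS jX hcomm e := by
  intro _
  have : IsOpenImmersion (Spec.map (CommRingCat.ofHom
      (algebraMap (R' ⊗[R] B) A))) :=
    IsOpenImmersion.of_isLocalization e
  simp only [pieceMap, piece]
  rw [Scheme.Hom.opensRange_comp]
  congr 1
  exact TopologicalSpace.Opens.ext <| PrimeSpectrum.localization_away_comap_range _ _

omit [IsOpenImmersion jS] [IsOpenImmersion jX] [IsLocalization.Away e A] in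
theorem pieceMap_snd : pieceMap f R B R' jS jX hcomm A ≫ pullback.snd _ _ =
    Spec.map (CommRingCat.ofHom (algebraMap R' A)) := by
  unfold pieceMap
  rw [Category.assoc, chart_snd, ← Spec.map_comp]
  congr 1
  ext x
  exact (IsScalarTower.algebraMap_apply R' (R' ⊗[R] B) A x).symm

theorem piece_iff (P : MorphismProperty Scheme.{u}) [P.RespectsIso] :
    P ((piece f R B R' jS jX hcomm e).ι ≫ pullback.snd _ _) ↔
      P (Spec.map (CommRingCat.ofHom (algebraMap R' A))) := by
  have : IsOpenImmersion (pieceMap f R B R' jS jX hcomm A) :=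
    isOpenImmersion_pieceMap f R B R' jS jX hcomm e A
  rw [← opensRange_pieceMap f R B R' jS jX hcomm e A,
    ← MorphismProperty.cancel_left_of_respectsIso P
      (Scheme.Hom.isoOpensRange (pieceMap f R B R' jS jX hcomm A)).hom,
    ← pieceMap_snd f R B R' jS jX hcomm A]
  simp [Scheme.Hom.isoOpensRange]

end Piece

end Chart

end Groth.Agent.Lib.Helper6.EtLoc
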