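import Mathlib

/-!
# Comparing `X ×_S U₂` with `X ×_S U` along `h : U₂ ⟶ U`
-/

set_option autoImplicit false
universe u

open CategoryTheory Limits AlgebraicGeometry

namespace Groth.Agent.Lib.Helper6.EtLoc

section BaseChange

variable {X S U U₂ : Scheme.{u}} (f : X ⟶ S) (g : U ⟶ S) (h : U₂ ⟶ U)

/-- The comparison map `X ×_S U₂ ⟶ X ×_S U`. -/
noncomputable def bcMap : pullback f (h ≫ g) ⟶ pullback f g :=
  pullback.map f (h ≫ g) f g (𝟙 X) h (𝟙 S) (by simp) (by simp)

@[reassoc (attr := simp)]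
theorem bcMap_fst : bcMap f g h ≫ pullback.fst f g = pullback.fst f (h ≫ g) := by
  unfold bcMap pullback.map
  rw [pullback.lift_fst, Category.comp_id]

@[reassoc (attr := simp)]
theorem bcMap_snd : bcMap f g h ≫ pullback.snd f g = pullback.snd f (h ≫ g) ≫ h := by
  unfold bcMap pullback.map
  rw [pullback.lift_snd]

theorem isPullback_bcMap :
    IsPullback (bcMap f g h) (pullback.snd f (h ≫ g)) (pullback.snd f g) h := by
  refine IsPullback.of_right ?_ (bcMap_snd f g h) (IsPullback.of_hasPullback f g)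
  rw [bcMap_fst]
  exact IsPullback.of_hasPullback f (h ≫ g)

theorem fst_bcMap_apply (w : ↑(pullback f (h ≫ g))) :
    pullback.fst f g (bcMap f g h w) = pullback.fst f (h ≫ g) w := by
  rw [← Scheme.Hom.comp_apply, bcMap_fst]

theorem snd_bcMap_apply (w : ↑(pullback f (h ≫ g))) :
    pullback.snd f g (bcMap f g h w) = h (pullback.snd f (h ≫ g) w) := by
  rw [← Scheme.Hom.comp_apply, bcMap_snd, Scheme.Hom.comp_apply]

/-- The pulled back open. -/
noncomputable def bcOpen (V : (pullback f g).Opens) : (pullback f (h ≫ g)).Opens :=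
  (bcMap f g h) ⁻¹ᵁ V

theorem mem_bcOpen {V : (pullback f g).Opens} {w : ↑(pullback f (h ≫ g))} :
    w ∈ bcOpen f g h V ↔ bcMap f g h w ∈ V := Iff.rfl

theorem isPullback_bcOpen (V : (pullback f g).Opens) :
    IsPullback ((bcMap f g h) ∣_ V) ((bcOpen f g h V).ι ≫ pullback.snd f (h ≫ g))
      (V.ι ≫ pullback.snd f g) h :=
  (isPullback_morphismRestrict (bcMap f g h) V).paste_vert (isPullback_bcMap f g h)

theorem bcOpen_property (P : MorphismProperty Scheme.{u}) [P.IsStableUnderBaseChange]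
    (V : (pullback f g).Opens) (hV : P (V.ι ≫ pullback.snd f g)) :
    P ((bcOpen f g h V).ι ≫ pullback.snd f (h ≫ g)) :=
  P.of_isPullback (isPullback_bcOpen f g h V) hV

/-- Lifting points along the comparison map. -/
theorem exists_bcMap_eq (w : ↑(pullback f g)) (u₂ : U₂) (hw : pullback.snd f g w = h u₂) :
    ∃ w₂ : ↑(pullback f (h ≫ g)), bcMap f g h w₂ = w ∧ pullback.snd f (h ≫ g) w₂ = u₂ :=
  Scheme.exists_preimage_of_isPullback (isPullback_bcMap f g h) w u₂ hw

/-- Restricting the base to an open inside the image of an open immersion `V ⟶ U` makes the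
pulled back piece map isomorphically to the new base. -/
theorem isIso_bcOpen_of_le_opensRange {X S U : Scheme.{u}} (f : X ⟶ S) (g : U ⟶ S)
    (V : (pullback f g).Opens) (hV : IsOpenImmersion (V.ι ≫ pullback.snd f g)) (U' : U.Opens)
    (hU' : U' ≤ (V.ι ≫ pullback.snd f g).opensRange) :
    IsIso ((bcOpen f g U'.ι V).ι ≫ pullback.snd f (U'.ι ≫ g)) := by
  rw [isIso_iff_isOpenImmersion_and_surjective]
  refine ⟨bcOpen_property f g U'.ι @IsOpenImmersion V hV, ⟨fun y => ?_⟩⟩
  obtain ⟨v, hv⟩ := hU' y.2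
  obtain ⟨p, -, hp⟩ := Scheme.exists_preimage_of_isPullback (isPullback_bcOpen f g U'.ι V) v y hv
  exact ⟨p, hp⟩

end BaseChange

end Groth.Agent.Lib.Helper6.EtLoc
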