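import Mathlib
import Groth.Agent.Lib.Helper6.EtLoc.BaseChange

/-!
# Étale neighbourhood data at a point, and amalgamation over finitely many points
-/

set_option autoImplicit false
set_option linter.unusedSectionVars false
universe u

open CategoryTheory Limits AlgebraicGeometry

namespace Groth.Agent.Lib.Helper6.EtLoc

section Nbhd

variable {X S : Scheme.{u}} (P : MorphismProperty Scheme.{u}) (f : X ⟶ S)

/-- Data over a pointed base `(U, g, u)` splitting off, in `X ×_S U`, opens `V k` with property `P`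
over `U` which over `u` contain exactly the points lying over `x₀`. -/
def NbhdData (x₀ : X) {U : Scheme.{u}} (g : U ⟶ S) (u : U) : Prop :=
  ∃ (K : Type) (_ : Finite K) (V : K → (pullback f g).Opens),
    (∀ k, P ((V k).ι ≫ pullback.snd f g) ∧
      ∃ w : ↑(pullback f g), w ∈ V k ∧ pullback.snd f g w = u) ∧
    (∀ k (w : ↑(pullback f g)), w ∈ V k → pullback.snd f g w = u → pullback.fst f g w = x₀) ∧
    (∀ (k k' : K) (w : ↑(pullback f g)), w ∈ V k → w ∈ V k' → pullback.snd f g w = u → k = k') ∧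
    (∀ w : ↑(pullback f g), pullback.snd f g w = u → pullback.fst f g w = x₀ → ∃ k, w ∈ V k)

variable {P f}

theorem NbhdData.congr {x₀ : X} {U : Scheme.{u}} {g g' : U ⟶ S} (hg : g = g') {u : U}
    (h : NbhdData P f x₀ g u) : NbhdData P f x₀ g' u := by
  subst hg; exact h

/-- Transport of neighbourhood data along a morphism of pointed bases. -/
theorem NbhdData.baseChange [P.IsStableUnderBaseChange] {x₀ : X} {U U₂ : Scheme.{u}} {g : U ⟶ S}
    {u : U} (hd : NbhdData P f x₀ g u) (h : U₂ ⟶ U) (u₂ : U₂) (hu : h u₂ = u) :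
    NbhdData P f x₀ (h ≫ g) u₂ := by
  obtain ⟨K, hK, V, h1, h2, h3, h4⟩ := hd
  refine ⟨K, hK, fun k => bcOpen f g h (V k), ?_, ?_, ?_, ?_⟩
  · intro k
    refine ⟨bcOpen_property f g h P (V k) (h1 k).1, ?_⟩
    obtain ⟨w, hw, hwu⟩ := (h1 k).2
    obtain ⟨w₂, hw₂, hw₂u⟩ := exists_bcMap_eq f g h w u₂ (by rw [hwu, hu])
    exact ⟨w₂, by rw [mem_bcOpen, hw₂]; exact hw, hw₂u⟩
  · intro k w hw hwu
    rw [← fst_bcMap_apply f g h w]
    exact h2 k _ hw (by rw [snd_bcMap_apply, hwu, hu])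
  · intro k k' w hw hw' hwu
    exact h3 k k' _ hw hw' (by rw [snd_bcMap_apply, hwu, hu])
  · intro w hwu hwx
    obtain ⟨k, hk⟩ := h4 (bcMap f g h w) (by rw [snd_bcMap_apply, hwu, hu])
      (by rw [fst_bcMap_apply, hwx])
    exact ⟨k, hk⟩

/-- Amalgamation of neighbourhood data over finitely many points. -/
theorem exists_common_nbhd [P.IsStableUnderBaseChange] (s : S) :
    ∀ (ι : Type) [Finite ι] (x : ι → X),
      (∀ i, ∃ (U : Scheme.{u}) (g : U ⟶ S) (u : U), Etale g ∧ g u = s ∧ NbhdData P f (x i) g u) →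
      ∃ (U : Scheme.{u}) (g : U ⟶ S) (u : U), Etale g ∧ g u = s ∧ ∀ i, NbhdData P f (x i) g u := by
  intro ι _
  induction ι using Finite.induction_empty_option with
  | of_equiv e ih =>
    intro x hx
    obtain ⟨U, g, u, hg, hgu, hd⟩ := ih (x ∘ e) (fun i => hx (e i))
    refine ⟨U, g, u, hg, hgu, fun i => ?_⟩
    have := hd (e.symm i)
    simpa using this
  | h_empty =>
    intro x _
    exact ⟨S, 𝟙 S, s, inferInstance, rfl, fun i => i.elim⟩
  | h_option ih =>
    intro x hx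
    obtain ⟨U₁, g₁, u₁, hg₁, hgu₁, hd₁⟩ := ih (fun i => x (some i)) (fun i => hx (some i))
    obtain ⟨U₂, g₂, u₂, hg₂, hgu₂, hd₂⟩ := hx none
    obtain ⟨u, hu1, hu2⟩ := Scheme.Pullback.exists_preimage_pullback (f := g₁) (g := g₂) u₁ u₂
      (by rw [hgu₁, hgu₂])
    refine ⟨pullback g₁ g₂, pullback.fst g₁ g₂ ≫ g₁, u, inferInstance, ?_, ?_⟩
    · rw [Scheme.Hom.comp_apply, hu1, hgu₁]
    · rintro (_ | i)
      · exact (hd₂.baseChange (pullback.snd g₁ g₂) u hu2).congr pullback.condition.symm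
      · exact (hd₁ i).baseChange (pullback.fst g₁ g₂) u hu1

/-- Assemble the neighbourhood data at finitely many distinct points. -/
theorem assemble {ι : Type} [Finite ι] (x : ι → X) (hinj : Function.Injective x)
    {U : Scheme.{u}} (g : U ⟶ S) (u : U) (hd : ∀ i, NbhdData P f (x i) g u) :
    ∃ (K : Type) (_ : Finite K) (lab : K → ι) (V : K → (pullback f g).Opens),
      (∀ k, P ((V k).ι ≫ pullback.snd f g) ∧
        ∃ w : ↑(pullback f g), w ∈ V k ∧ pullback.snd f g w = u) ∧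
      (∀ k (w : ↑(pullback f g)), w ∈ V k → pullback.snd f g w = u →
        pullback.fst f g w = x (lab k)) ∧
      (∀ (k k' : K) (w : ↑(pullback f g)), w ∈ V k → w ∈ V k' → pullback.snd f g w = u →
        k = k') ∧
      (∀ (w : ↑(pullback f g)) (i : ι), pullback.snd f g w = u → pullback.fst f g w = x i →
        ∃ k, lab k = i ∧ w ∈ V k) := by
  choose K hK V h1 h2 h3 h4 using hd
  refine ⟨Σ i, K i, inferInstance, Sigma.fst, fun k => V k.1 k.2, ?_, ?_, ?_, ?_⟩
  · rintro ⟨i, k⟩; exact h1 i k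
  · rintro ⟨i, k⟩ w hw hwu; exact h2 i k w hw hwu
  · rintro ⟨i, k⟩ ⟨i', k'⟩ w hw hw' hwu
    have hi : i = i' := hinj ((h2 i k w hw hwu).symm.trans (h2 i' k' w hw' hwu))
    subst hi
    rw [h3 i k k' w hw hw' hwu]
  · intro w i hwu hwx
    obtain ⟨k, hk⟩ := h4 i w hwu hwx
    exact ⟨⟨i, k⟩, rfl, hk⟩

end Nbhd

end Groth.Agent.Lib.Helper6.EtLoc
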