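import Mathlib

/-!
# Idempotents attached to a product decomposition `T ≃ (∀ k, A k) × C`
-/

set_option autoImplicit false
set_option linter.unusedSectionVars false
universe u

namespace Groth.Agent.Lib.Helper6.EtLoc

section ProdIdem

variable {R' T C : Type u} [CommRing R'] [CommRing T] [CommRing C] [Algebra R' T] [Algebra R' C]
  {n : ℕ} {A : Fin n → Type u} [∀ k, CommRing (A k)] [∀ k, Algebra R' (A k)]
  (e : T ≃ₐ[R'] (∀ k, A k) × C)

/-- The idempotent of `T` cutting out the factor `A k`. -/
noncomputable def idem (k : Fin n) : T := e.symm (Pi.single k 1, 0)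

/-- The idempotent of `T` cutting out the factor `C`. -/
noncomputable def idemC : T := e.symm (0, 1)

/-- The projection to the factor `A k`. -/
noncomputable def projA (k : Fin n) : T →ₐ[R'] A k :=
  (Pi.evalAlgHom R' A k).comp ((AlgHom.fst R' _ _).comp e.toAlgHom)

/-- The projection to the factor `C`. -/
noncomputable def projC : T →ₐ[R'] C := (AlgHom.snd R' _ _).comp e.toAlgHom

theorem projA_apply (k : Fin n) (x : T) : projA e k x = (e x).1 k := rfl

theorem projC_apply (x : T) : projC e x = (e x).2 := rfl

theorem e_idem (k : Fin n) : e (idem e k) = (Pi.single k 1, 0) := by simp [idem]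

theorem e_idemC : e (idemC e) = (0, 1) := by simp [idemC]

theorem idem_isIdempotentElem (k : Fin n) : IsIdempotentElem (idem e k) := by
  apply e.injective
  rw [map_mul, e_idem]
  ext j
  · by_cases h : j = k
    · subst h; simp
    · simp [Pi.single_eq_of_ne h]
  · simp

theorem idem_mul_idem_of_ne {k k' : Fin n} (h : k ≠ k') : idem e k * idem e k' = 0 := by
  apply e.injective
  rw [map_mul, e_idem, e_idem, map_zero]
  ext j
  · by_cases hj : j = k
    · subst hj; simp [Pi.single_eq_of_ne h]
    · simp [Pi.single_eq_of_ne hj]
  · simp

theorem sum_idem_add_idemC : ∑ k, idem e k + idemC e = 1 := by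
  apply e.injective
  rw [map_add, map_sum, e_idemC, map_one]
  simp_rw [e_idem]
  ext j
  · simp [Prod.fst_sum, Finset.sum_apply]
  · simp [Prod.snd_sum]

theorem projA_surjective (k : Fin n) : Function.Surjective (projA e k) := by
  intro a
  refine ⟨e.symm (Pi.single k a, 0), ?_⟩
  simp [projA_apply]

theorem projC_surjective : Function.Surjective (projC e) := by
  intro c
  exact ⟨e.symm (0, c), by simp [projC_apply]⟩

theorem projA_eq_iff (k : Fin n) (x y : T) :
    projA e k x = projA e k y ↔ idem e k * x = idem e k * y := by
  rw [projA_apply, projA_apply, ← e.injective.eq_iff (a := idem e k * x), map_mul, map_mul, e_idem]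
  constructor
  · intro h
    ext j
    · by_cases hj : j = k
      · subst hj; simp [h]
      · simp [Pi.single_eq_of_ne hj]
    · simp
  · intro h
    have := congrArg (fun p => p.1 k) h
    simpa using this

theorem projC_eq_iff (x y : T) :
    projC e x = projC e y ↔ idemC e * x = idemC e * y := by
  rw [projC_apply, projC_apply, ← e.injective.eq_iff (a := idemC e * x), map_mul, map_mul, e_idemC]
  constructor
  · intro h
    ext j
    · simp
    · simp [h]
  · intro h
    have := congrArg (fun p => p.2) h
    simpa using this

theorem idemC_isIdempotentElem : IsIdempotentElem (idemC e) := by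
  apply e.injective
  rw [map_mul, e_idemC]
  ext j <;> simp

/-- `A k` is the localization of `T` away from `idem e k`. -/
theorem isLocalization_projA (k : Fin n) :
    letI := (projA e k).toRingHom.toAlgebra
    IsLocalization.Away (idem e k) (A k) := by
  let _ := (projA e k).toRingHom.toAlgebra
  exact IsLocalization.away_of_isIdempotentElem_of_mul (idem_isIdempotentElem e k)
    (fun x y => projA_eq_iff e k x y) (projA_surjective e k)

/-- `C` is the localization of `T` away from `idemC e`. -/
theorem isLocalization_projC :
    letI := (projC e).toRingHom.toAlgebra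
    IsLocalization.Away (idemC e) C := by
  let _ := (projC e).toRingHom.toAlgebra
  exact IsLocalization.away_of_isIdempotentElem_of_mul (idemC_isIdempotentElem e)
    (fun x y => projC_eq_iff e x y) (projC_surjective e)

/-- A prime of `T` lives in one of the factors. -/
theorem exists_idem_notMem_or (z : Ideal T) [hz : z.IsPrime] :
    (∃ k, idem e k ∉ z) ∨ ∃ zC : Ideal C, zC.IsPrime ∧ zC.comap (projC e).toRingHom = z := by
  by_cases h : ∃ k, idem e k ∉ z
  · exact Or.inl h
  · right
    push Not at h
    have hsum : ∑ k, idem e k ∈ z := Ideal.sum_mem _ fun k _ => h k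
    have hker : RingHom.ker (projC e).toRingHom ≤ z := by
      intro x hx
      have h0 : projC e x = projC e 0 := by
        rw [map_zero]; exact hx
      have h1 := (projC_eq_iff e x 0).mp h0
      rw [mul_zero] at h1
      have h2 : x = (∑ k, idem e k) * x := by
        have := sum_idem_add_idemC e
        calc x = 1 * x := (one_mul x).symm
          _ = (∑ k, idem e k + idemC e) * x := by rw [this]
          _ = (∑ k, idem e k) * x := by rw [add_mul, h1, add_zero]
      rw [h2]
      exact Ideal.mul_mem_right _ _ hsum
    have hsurj : Function.Surjective (projC e).toRingHom := projC_surjective e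
    refine ⟨z.map (projC e).toRingHom,
      Ideal.map_isPrime_of_surjective hsurj hker, ?_⟩
    rw [Ideal.comap_map_of_surjective _ hsurj, ← RingHom.ker_eq_comap_bot]
    exact sup_eq_left.mpr hker

/-- A prime of `A k` gives a prime of `T` avoiding `idem e k`. -/
theorem idem_notMem_comap (k : Fin n) (y : Ideal (A k)) [hy : y.IsPrime] :
    idem e k ∉ y.comap (projA e k).toRingHom := by
  intro h
  have h1 : projA e k (idem e k) ∈ y := h
  rw [projA_apply, e_idem] at h1
  simp only [Pi.single_eq_same] at h1
  exact hy.ne_top ((Ideal.eq_top_iff_one _).mpr h1)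

end ProdIdem

end Groth.Agent.Lib.Helper6.EtLoc
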