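import Mathlib
import Groth.Agent.Lib.Helper6.EtLoc.Chart
import Groth.Agent.Lib.Helper6.EtLoc.ProdIdem
import Groth.Agent.Lib.Helper6.EtLoc.Nbhd

/-!
# Neighbourhood data from a ring-level product decomposition
-/

set_option autoImplicit false
set_option linter.unusedSectionVars false
universe u

open CategoryTheory Limits AlgebraicGeometry TensorProduct

namespace Groth.Agent.Lib.Helper6.EtLoc

theorem spec_map_apply_eq {R₁ R₂ : Type u} [CommRing R₁] [CommRing R₂] (φ : R₁ →+* R₂)
    (z : PrimeSpectrum R₂) :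
    (Spec.map (CommRingCat.ofHom φ)) z = ⟨z.asIdeal.comap φ, inferInstance⟩ := rfl

theorem nbhdData_of_decomp (P : MorphismProperty Scheme.{u}) [P.RespectsIso] {X S : Scheme.{u}}
    (f : X ⟶ S) (R B R' : Type u) [CommRing R] [CommRing B] [CommRing R'] [Algebra R B]
    [Algebra R R'] (jS : Spec (.of R) ⟶ S) (jX : Spec (.of B) ⟶ X) [IsOpenImmersion jS]
    [IsOpenImmersion jX]
    (hcomm : Spec.map (CommRingCat.ofHom (algebraMap R B)) ≫ jS = jX ≫ f)
    (p' : Ideal R') [hp' : p'.IsPrime] (q : Ideal B) [hq : q.IsPrime]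
    (hiso : ∀ q' : Ideal B, q'.IsPrime →
      q'.comap (algebraMap R B) = p'.comap (algebraMap R R') → q' = q)
    {n : ℕ} (A : Fin n → Type u) [∀ k, CommRing (A k)] [∀ k, Algebra R' (A k)] (C : Type u)
    [CommRing C] [Algebra R' C] (e : R' ⊗[R] B ≃ₐ[R'] (∀ k, A k) × C)
    (hA : ∀ k, P (Spec.map (CommRingCat.ofHom (algebraMap R' (A k)))) ∧
      ∃ y : Ideal (A k), y.IsPrime ∧ y.comap (algebraMap R' (A k)) = p')
    (hC : ∀ y : Ideal C, y.IsPrime → y.comap (algebraMap R' C) ≠ p') :
    NbhdData P f (jX ⟨q, hq⟩) (baseMap R R' jS) (⟨p', hp'⟩ : PrimeSpectrum R') := by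
  classical
  -- basic facts on points
  have hsnd : ∀ z : PrimeSpectrum (R' ⊗[R] B),
      pullback.snd f (baseMap R R' jS) (chart f R B R' jS jX hcomm z) =
        (⟨z.asIdeal.comap (algebraMap R' (R' ⊗[R] B)), inferInstance⟩ : PrimeSpectrum R') :=
    fun z => snd_chart_apply f R B R' jS jX hcomm z
  have hfst : ∀ z : PrimeSpectrum (R' ⊗[R] B),
      pullback.fst f (baseMap R R' jS) (chart f R B R' jS jX hcomm z) =
        jX (⟨z.asIdeal.comap (Algebra.TensorProduct.includeRight :
          B →ₐ[R] R' ⊗[R] B).toRingHom, inferInstance⟩ : PrimeSpectrum B) :=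
    fun z => fst_chart_apply f R B R' jS jX hcomm z
  have hover : ∀ z : PrimeSpectrum (R' ⊗[R] B),
      pullback.snd f (baseMap R R' jS) (chart f R B R' jS jX hcomm z) =
        (⟨p', hp'⟩ : PrimeSpectrum R') → z.asIdeal.comap (algebraMap R' (R' ⊗[R] B)) = p' := by
    intro z hz
    rw [hsnd] at hz
    exact congrArg PrimeSpectrum.asIdeal hz
  have hinjc : Function.Injective (chart f R B R' jS jX hcomm) :=
    (chart f R B R' jS jX hcomm).isOpenEmbedding.injective
  refine ⟨Fin n, inferInstance, fun k => piece f R B R' jS jX hcomm (idem e k), ?_, ?_, ?_, ?_⟩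
  · intro k
    constructor
    · let _ : Algebra (R' ⊗[R] B) (A k) := (projA e k).toRingHom.toAlgebra
      have hst : IsScalarTower R' (R' ⊗[R] B) (A k) :=
        IsScalarTower.of_algebraMap_eq fun r => ((projA e k).commutes r).symm
      have hloc : IsLocalization.Away (idem e k) (A k) := isLocalization_projA e k
      exact (piece_iff f R B R' jS jX hcomm (idem e k) (A k) P).mpr (hA k).1
    · obtain ⟨y, hy, hyp⟩ := (hA k).2
      let z : PrimeSpectrum (R' ⊗[R] B) := ⟨y.comap (projA e k).toRingHom, inferInstance⟩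
      refine ⟨chart f R B R' jS jX hcomm z, ?_, ?_⟩
      · rw [mem_piece]
        exact ⟨z, idem_notMem_comap e k y, rfl⟩
      · rw [hsnd]
        apply PrimeSpectrum.ext
        show (y.comap (projA e k).toRingHom).comap (algebraMap R' (R' ⊗[R] B)) = p'
        rw [Ideal.comap_comap, ← hyp]
        congr 1
        ext r
        exact (projA e k).commutes r
  · intro k w hw hwu
    rw [mem_piece] at hw
    obtain ⟨z, -, rfl⟩ := hw
    rw [hfst]
    congr 1
    apply PrimeSpectrum.ext
    apply hiso _ inferInstance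
    show (z.asIdeal.comap (Algebra.TensorProduct.includeRight :
      B →ₐ[R] R' ⊗[R] B).toRingHom).comap (algebraMap R B) = _
    rw [← hover z hwu, Ideal.comap_comap, Ideal.comap_comap]
    congr 1
    ext r
    simp [Algebra.algebraMap_eq_smul_one]
  · intro k k' w hw hw' hwu
    rw [mem_piece] at hw hw'
    obtain ⟨z, hz, rfl⟩ := hw
    obtain ⟨z', hz', hzz'⟩ := hw'
    have : z' = z := hinjc hzz'
    subst this
    by_contra hne
    have h0 : idem e k * idem e k' ∈ z'.asIdeal := by
      rw [idem_mul_idem_of_ne e hne]; exact Ideal.zero_mem _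
    rcases z'.isPrime.mem_or_mem h0 with h | h
    · exact hz h
    · exact hz' h
  · intro w hwu hwx
    obtain ⟨z0, rfl⟩ := exists_chart_eq f R B R' jS jX hcomm w (by rw [hwx]; exact ⟨_, rfl⟩)
    obtain ⟨z, hz0⟩ : ∃ z : PrimeSpectrum (R' ⊗[R] B), z = z0 := ⟨z0, rfl⟩
    subst hz0
    have hzp : z.asIdeal.IsPrime := z.isPrime
    rcases exists_idem_notMem_or e z.asIdeal with ⟨k, hk⟩ | ⟨zC, hzC, hzCz⟩
    · exact ⟨k, (mem_piece f R B R' jS jX hcomm (idem e k)).mpr ⟨z, hk, rfl⟩⟩
    · exfalso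
      apply hC zC hzC
      rw [← hover z hwu, ← hzCz, Ideal.comap_comap]
      congr 1
      ext r
      exact ((projC e).commutes r).symm

end Groth.Agent.Lib.Helper6.EtLoc
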