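import Mathlib
import Groth.Agent.Lib.Helper6.EtLoc.Decomp
import Groth.Agent.Lib.Helper6.EtLoc.ChartData
import Groth.Agent.Lib.Helper6.UnramSplit3

/-!
# Étale localization at an unramified point
-/

set_option autoImplicit false
set_option linter.unusedSectionVars false
universe u

open CategoryTheory Limits AlgebraicGeometry TensorProduct

namespace Groth.Agent.Lib.Helper6.EtLoc

/-- Localized chart data: shrink the chart `Spec B₀` to `Spec (B₀)_b`. -/
theorem away_chart {X S : Scheme.{u}} (f : X ⟶ S) (R B₀ : Type u) [CommRing R] [CommRing B₀]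
    [Algebra R B₀] (jS : Spec (.of R) ⟶ S) (jX₀ : Spec (.of B₀) ⟶ X) [IsOpenImmersion jX₀]
    (hcomm₀ : Spec.map (CommRingCat.ofHom (algebraMap R B₀)) ≫ jS = jX₀ ≫ f)
    (q₀ : PrimeSpectrum B₀) (b : B₀) (hb : b ∉ q₀.asIdeal) :
    ∃ (jX : Spec (.of (Localization.Away b)) ⟶ X) (_ : IsOpenImmersion jX)
      (_ : Spec.map (CommRingCat.ofHom (algebraMap R (Localization.Away b))) ≫ jS = jX ≫ f)
      (hq : (q₀.asIdeal.map (algebraMap B₀ (Localization.Away b))).IsPrime),
      jX ⟨q₀.asIdeal.map (algebraMap B₀ (Localization.Away b)), hq⟩ = jX₀ q₀ ∧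
      Set.range jX ⊆ Set.range jX₀ := by
  have hoi : IsOpenImmersion (Spec.map (CommRingCat.ofHom
      (algebraMap B₀ (Localization.Away b)))) := IsOpenImmersion.of_isLocalization b
  have hdisj : Disjoint (Submonoid.powers b : Set B₀) (q₀.asIdeal : Set B₀) := by
    rw [Ideal.disjoint_powers_iff_notMem_of_isPrime]; exact hb
  have hq : (q₀.asIdeal.map (algebraMap B₀ (Localization.Away b))).IsPrime :=
    IsLocalization.isPrime_of_isPrime_disjoint (Submonoid.powers b) _ _ q₀.isPrime hdisj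
  refine ⟨Spec.map (CommRingCat.ofHom (algebraMap B₀ (Localization.Away b))) ≫ jX₀,
    inferInstance, ?_, hq, ?_, ?_⟩
  · rw [Category.assoc, ← hcomm₀, ← Category.assoc, ← Spec.map_comp]
    congr 2
  · change jX₀ ((Spec.map (CommRingCat.ofHom (algebraMap B₀ (Localization.Away b))))
      (⟨q₀.asIdeal.map (algebraMap B₀ (Localization.Away b)), hq⟩ :
        PrimeSpectrum (Localization.Away b))) = jX₀ q₀
    congr 1
    apply PrimeSpectrum.ext
    exact IsLocalization.under_map_of_isPrime_disjoint (Submonoid.powers b) _ q₀.isPrime hdisj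
  · rintro _ ⟨z, rfl⟩
    change jX₀ _ ∈ _
    exact ⟨_, rfl⟩

theorem baseMap_apply {S : Scheme.{u}} (R R' : Type u) [CommRing R] [CommRing R'] [Algebra R R']
    (jS : Spec (.of R) ⟶ S) (p' : PrimeSpectrum R') :
    baseMap R R' jS p' = jS ⟨p'.asIdeal.comap (algebraMap R R'), inferInstance⟩ := by
  rfl

theorem etale_baseMap {S : Scheme.{u}} (R R' : Type u) [CommRing R] [CommRing R'] [Algebra R R']
    [Algebra.Etale R R'] (jS : Spec (.of R) ⟶ S) [IsOpenImmersion jS] :
    Etale (baseMap R R' jS) := by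
  have h1 : (CommRingCat.ofHom (algebraMap R R')).hom.Etale := RingHom.etale_algebraMap.mpr ‹_›
  have : Etale (Spec.map (CommRingCat.ofHom (algebraMap R R'))) :=
    HasRingHomProperty.Spec_iff.mpr h1
  unfold baseMap
  infer_instance

theorem unram_point {X S : Scheme.{u}} (f : X ⟶ S) (x₀ : X) (W : X.Opens) (hx₀ : x₀ ∈ W)
    (hlft : LocallyOfFiniteType (W.ι ≫ f)) (hun : FormallyUnramified (W.ι ≫ f)) :
    ∃ (U : Scheme.{u}) (g : U ⟶ S) (u : U), Etale g ∧ g u = f x₀ ∧
      NbhdData @IsClosedImmersion f x₀ g u := by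
  obtain ⟨R, B₀, _, _, _, jS, jX₀, _, _, hcomm₀, q₀, hq₀x, -, hprop, -⟩ :=
    exists_chart_data f x₀ W hx₀
  have hft : Algebra.FiniteType R B₀ :=
    RingHom.finiteType_algebraMap.mp (hprop @LocallyOfFiniteType _ hlft)
  have hfu : Algebra.FormallyUnramified R B₀ :=
    RingHom.formallyUnramified_algebraMap.mp (hprop @FormallyUnramified _ hun)
  have hqf : Algebra.QuasiFinite R B₀ := inferInstance
  have hq₀p : q₀.asIdeal.IsPrime := q₀.isPrime
  obtain ⟨b, hbq, hiso⟩ := exists_isolating R B₀ q₀.asIdeal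
  obtain ⟨jX, _, hcomm, hq, hjq, -⟩ := away_chart f R B₀ jS jX₀ hcomm₀ q₀ b hbq
  have hp : (q₀.asIdeal.comap (algebraMap R B₀)).IsPrime := inferInstance
  have hunB₀ : Algebra.Unramified R B₀ := {}
  have hunB₁ : Algebra.Unramified B₀ (Localization.Away b) :=
    Algebra.Unramified.of_isLocalization_Away b
  have hunB : Algebra.Unramified R (Localization.Away b) :=
    Algebra.Unramified.comp R B₀ (Localization.Away b)
  obtain ⟨R', _, _, _, p', hp', hp'p, n, A, _, _, C, _, _, ⟨e⟩, hA, hC⟩ :=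
    UnramSplit.main9449 R (Localization.Away b) (q₀.asIdeal.comap (algebraMap R B₀))
  have hp'under : p'.comap (algebraMap R R') = q₀.asIdeal.comap (algebraMap R B₀) :=
    (hp'p.over).symm
  refine ⟨Spec (.of R'), baseMap R R' jS, (⟨p', hp'⟩ : PrimeSpectrum R'),
    etale_baseMap R R' jS, ?_, ?_⟩
  · rw [baseMap_apply, ← hq₀x]
    have h1 : f (jX₀ q₀) = jS ((Spec.map (CommRingCat.ofHom (algebraMap R B₀))) q₀) := by
      have := congrArg (fun φ : Spec (.of B₀) ⟶ S => φ q₀) hcomm₀
      exact this.symm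
    rw [h1]
    congr 1
    apply PrimeSpectrum.ext
    exact hp'under
  · rw [← hq₀x, ← hjq]
    refine nbhdData_of_decomp @IsClosedImmersion f R (Localization.Away b) R' jS jX hcomm p'
      (q₀.asIdeal.map (algebraMap B₀ (Localization.Away b))) ?_ A C e ?_ ?_
    · intro q' hq' hq'c
      exact isolated_away R B₀ q₀.asIdeal b hbq hiso q' hq' (hq'c.trans hp'under)
    · intro k
      refine ⟨IsClosedImmersion.spec_of_surjective _ (hA k).1, _, (hA k).2.1, (hA k).2.2⟩
    · intro y hy
      exact hC y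

end Groth.Agent.Lib.Helper6.EtLoc
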