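import Mathlib
import Groth.Agent.Lib.Helper6.EtLoc.ResExt
import Groth.Agent.Lib.Helper6.EtLoc.UnramPoint
import Groth.Agent.Lib.Helper9.UnivHomeo

/-!
# Étale neighbourhoods realizing a finite separable residue field extension (scheme level)
-/

set_option autoImplicit false
set_option linter.unusedSectionVars false
universe u

open CategoryTheory Limits AlgebraicGeometry

namespace Groth.Agent.Lib.Helper6.EtLoc

/-- The residue field map of `Spec R' ⟶ Spec R ⟶ S` at `u`, in ring-theoretic terms. -/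
theorem residueFieldMap_baseMap_eq {S : Scheme.{u}} (R R' : Type u) [CommRing R] [CommRing R']
    [Algebra R R'] (jS : Spec (.of R) ⟶ S) (p : PrimeSpectrum R) (u : PrimeSpectrum R')
    (e : p = (Spec.map (CommRingCat.ofHom (algebraMap R R'))) u) :
    (S.residueFieldCongr (congrArg jS e)).hom ≫ (baseMap R R' jS).residueFieldMap u =
    (jS.residueFieldMap p ≫ (Scheme.Spec.residueFieldIso (.of R) p).hom) ≫
      CommRingCat.ofHom (Ideal.ResidueField.map p.asIdeal u.asIdeal (algebraMap R R')
        (congrArg PrimeSpectrum.asIdeal e)) ≫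
      (Scheme.Spec.residueFieldIso (.of R') u).inv := by
  subst e
  have hsq := Groth.Agent.Helper9.UH.residueFieldMap_square
    (CommRingCat.ofHom (algebraMap R R')) u
  rw [Scheme.residueFieldCongr_refl, Iso.refl_hom]
  erw [Category.id_comp]
  have h3 : (baseMap R R' jS).residueFieldMap u =
      jS.residueFieldMap ((Spec.map (CommRingCat.ofHom (algebraMap R R'))) u) ≫
        (Spec.map (CommRingCat.ofHom (algebraMap R R'))).residueFieldMap u :=
    Scheme.residueFieldMap_comp _ _ _
  rw [h3]
  erw [← hsq]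
  simp only [Category.assoc, Iso.hom_inv_id, Category.comp_id, Iso.hom_inv_id_assoc]


/-- Stacks 00UD for schemes: an étale neighbourhood realizing a finite separable extension of the
residue field. -/
theorem exists_etale_nbhd_residueField (S : Scheme.{u}) (s : S) (k : Type u) [Field k]
    [Algebra (S.residueField s) k] [FiniteDimensional (S.residueField s) k]
    [Algebra.IsSeparable (S.residueField s) k] :
    ∃ (U : Scheme.{u}) (g : U ⟶ S) (u : U) (hu : g u = s), Etale g ∧
      letI := ((S.residueFieldCongr hu).inv ≫ g.residueFieldMap u).hom.toAlgebra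
      Nonempty (k ≃ₐ[S.residueField s] U.residueField u) := by
  obtain ⟨_, ⟨U₀, hU₀m, rfl⟩, hsU₀, -⟩ := S.isBasis_affineOpens.exists_subset_of_mem_open
    (Set.mem_univ s) isOpen_univ
  have hU₀ : IsAffineOpen U₀ := hU₀m
  obtain ⟨p, hp⟩ : ∃ p : PrimeSpectrum Γ(S, U₀), hU₀.fromSpec p = s :=
    ⟨hU₀.primeIdealOf ⟨s, hsU₀⟩, hU₀.fromSpec_primeIdealOf ⟨s, hsU₀⟩⟩
  subst hp
  have hpp : p.asIdeal.IsPrime := p.isPrime
  -- the comparison of residue fields
  have hiso : IsIso (hU₀.fromSpec.residueFieldMap p) :=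
    inferInstanceAs (IsIso (hU₀.fromSpec.residueFieldMap (show ↥(Spec Γ(S, U₀)) from p)))
  let Θ : S.residueField (hU₀.fromSpec p) ≅ CommRingCat.of p.asIdeal.ResidueField :=
    asIso (hU₀.fromSpec.residueFieldMap p) ≪≫ Scheme.Spec.residueFieldIso (.of Γ(S, U₀)) p
  let θ : S.residueField (hU₀.fromSpec p) ≃+* p.asIdeal.ResidueField :=
    Θ.commRingCatIsoToRingEquiv
  let _ : Algebra p.asIdeal.ResidueField k :=
    ((algebraMap (S.residueField (hU₀.fromSpec p)) k).comp θ.symm.toRingHom).toAlgebra
  have halg : ∀ c, algebraMap p.asIdeal.ResidueField k (θ c) =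
      algebraMap (S.residueField (hU₀.fromSpec p)) k c := by
    intro c
    show algebraMap (S.residueField (hU₀.fromSpec p)) k (θ.symm (θ c)) = _
    rw [RingEquiv.symm_apply_apply]
  have hcompat : RingHom.comp (algebraMap p.asIdeal.ResidueField k) (θ : _ →+* _) =
      RingHom.comp ((RingEquiv.refl k : k ≃+* k) : k →+* k)
        (algebraMap (S.residueField (hU₀.fromSpec p)) k) := by
    ext c
    exact halg c
  have hfin : FiniteDimensional p.asIdeal.ResidueField k :=
    Module.Finite.of_equiv_equiv θ (RingEquiv.refl k) hcompat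
  have hsepk : Algebra.IsSeparable p.asIdeal.ResidueField k :=
    Algebra.IsSeparable.of_equiv_equiv θ (RingEquiv.refl k) hcompat
  obtain ⟨R', _, _, het, p', hp', hpp', e, he⟩ :=
    exists_etale_residueField_equiv Γ(S, U₀) p.asIdeal k
  let u : PrimeSpectrum R' := ⟨p', hp'⟩
  have e0 : p = (Spec.map (CommRingCat.ofHom (algebraMap Γ(S, U₀) R'))) u :=
    PrimeSpectrum.ext hpp'.symm
  have hkey := residueFieldMap_baseMap_eq Γ(S, U₀) R' hU₀.fromSpec p u e0
  refine ⟨Spec (.of R'), baseMap Γ(S, U₀) R' hU₀.fromSpec, u, (congrArg hU₀.fromSpec e0).symm,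
    etale_baseMap Γ(S, U₀) R' hU₀.fromSpec, ?_⟩
  let E : k ≃+* (Spec (.of R')).residueField u :=
    e.symm.trans (Scheme.Spec.residueFieldIso (.of R') u).symm.commRingCatIsoToRingEquiv
  refine ⟨@AlgEquiv.ofRingEquiv _ _ _ _ _ _ _
    ((S.residueFieldCongr (congrArg hU₀.fromSpec e0).symm).inv ≫
      (baseMap Γ(S, U₀) R' hU₀.fromSpec).residueFieldMap u).hom.toAlgebra E ?_⟩
  intro c
  rw [RingHom.algebraMap_toAlgebra]
  have h1 : (S.residueFieldCongr (congrArg hU₀.fromSpec e0).symm).inv =
      (S.residueFieldCongr (congrArg hU₀.fromSpec e0)).hom := rfl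
  rw [h1, hkey]
  show (Scheme.Spec.residueFieldIso (.of R') u).inv (e.symm (algebraMap _ k c)) = _
  rw [← halg c]
  have h2 : e.symm (algebraMap p.asIdeal.ResidueField k (θ c)) =
      Ideal.ResidueField.map p.asIdeal p' (algebraMap Γ(S, U₀) R') hpp'.symm (θ c) := by
    rw [RingEquiv.symm_apply_eq, he]
  rw [h2]
  rfl

end Groth.Agent.Lib.Helper6.EtLoc
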