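import Mathlib

/-!
# Field theory for purely inseparable residue field extensions after étale localization
-/

set_option autoImplicit false
universe u

open Polynomial

namespace Groth.Agent.Lib.Helper6.EtLoc

/-- Elementwise form of pure inseparability of a ring homomorphism. -/
def PIhom (q : ℕ) {K L : Type*} [CommRing K] [CommRing L] (φ : K →+* L) : Prop :=
  ∀ b : L, ∃ n : ℕ, b ^ q ^ n ∈ φ.range

theorem PIhom.isPurelyInseparable {q : ℕ} {K L : Type*} [Field K] [Field L] (φ : K →+* L)
    [ExpChar K q] (h : PIhom q φ) :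
    letI := φ.toAlgebra
    IsPurelyInseparable K L := by
  let _ := φ.toAlgebra
  rw [isPurelyInseparable_iff_pow_mem K q]
  exact h

/-- A finite field extension has a separable element `θ` such that a `q`-power of any element
lies in any subring containing the base field and `θ`. -/
theorem exists_sep_gen (K E : Type*) [Field K] [Field E] [Algebra K E] [FiniteDimensional K E]
    (q : ℕ) [ExpChar K q] :
    ∃ θ : E, IsSeparable K θ ∧ ∀ R' : Subring E, (∀ c, algebraMap K E c ∈ R') → θ ∈ R' →
      ∀ e : E, ∃ n : ℕ, e ^ q ^ n ∈ R' := by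
  let Es := separableClosure K E
  have h1 : Algebra.IsSeparable K Es := inferInstance
  have h2 : FiniteDimensional K Es := inferInstance
  let pb := Field.powerBasisOfFiniteOfSeparable K Es
  refine ⟨(pb.gen : E), mem_separableClosure_iff.1 pb.gen.2, ?_⟩
  intro R' hK hθ e
  have h3 : IsPurelyInseparable Es E := separableClosure.isPurelyInseparable K E
  have h4 : ExpChar Es q := expChar_of_injective_algebraMap (algebraMap K Es).injective q
  obtain ⟨n, y, hy⟩ := (isPurelyInseparable_iff_pow_mem Es q).1 h3 e
  refine ⟨n, ?_⟩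
  rw [← hy]
  let A' : Subalgebra K E :=
    { R'.toSubsemiring with algebraMap_mem' := hK }
  have h5 : y ∈ Algebra.adjoin K ({pb.gen} : Set Es) := by
    rw [pb.adjoin_gen_eq_top]; trivial
  have h6 : Es.val y ∈ (Algebra.adjoin K ({pb.gen} : Set Es)).map Es.val :=
    ⟨y, h5, rfl⟩
  rw [AlgHom.map_adjoin, Set.image_singleton] at h6
  have h7 : Algebra.adjoin K ({Es.val pb.gen} : Set E) ≤ A' :=
    Algebra.adjoin_le (by
      rintro _ rfl
      exact hθ)
  exact h7 h6

/-- Ring hom version of `exists_sep_gen`, with a separable polynomial killing `θ`. -/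
theorem exists_sep_gen' {K E : Type*} [Field K] [Field E] (φ : K →+* E) (hφ : φ.Finite)
    (q : ℕ) [ExpChar K q] :
    ∃ (θ : E) (Q : K[X]), Q.Separable ∧ Q.eval₂ φ θ = 0 ∧
      ∀ R' : Subring E, (∀ c, φ c ∈ R') → θ ∈ R' → ∀ e : E, ∃ n : ℕ, e ^ q ^ n ∈ R' := by
  let _ : Algebra K E := φ.toAlgebra
  have : FiniteDimensional K E := hφ
  obtain ⟨θ, hθ, hgen⟩ := exists_sep_gen K E q
  refine ⟨θ, minpoly K θ, hθ, ?_, hgen⟩
  have := minpoly.aeval K θ
  rwa [Polynomial.aeval_def] at this

/-- A common finite separable extension splitting finitely many separable polynomials. -/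
theorem exists_splitting (K : Type u) [Field K] {ι : Type*} [Finite ι] (Q : ι → K[X])
    (hQ : ∀ i, (Q i).Separable) :
    ∃ (k : Type u) (_ : Field k) (_ : Algebra K k), FiniteDimensional K k ∧
      Algebra.IsSeparable K k ∧ ∀ i, ((Q i).map (algebraMap K k)).Splits := by
  classical
  have := Fintype.ofFinite ι
  let P : K[X] := ∏ i, Q i
  have hP0 : P ≠ 0 := Finset.prod_ne_zero_iff.mpr fun i _ => (hQ i).ne_zero
  refine ⟨P.SplittingField, inferInstance, inferInstance, ?_, ?_, ?_⟩
  · exact Polynomial.IsSplittingField.finiteDimensional P.SplittingField P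
  · have sp : P.IsSplittingField K P.SplittingField := inferInstance
    rw [← IntermediateField.isSeparable_top (F := K) (E := P.SplittingField),
      ← (isSplittingField_iff_intermediateField.mp sp).2,
      IntermediateField.isSeparable_adjoin_iff_isSeparable]
    intro x hx
    have hx0 : aeval x P = 0 := aeval_eq_zero_of_mem_rootSet hx
    rw [map_prod, Finset.prod_eq_zero_iff] at hx0
    obtain ⟨i, -, hi⟩ := hx0
    exact (hQ i).of_dvd (minpoly.dvd K x hi)
  · intro i
    have h1 : (P.map (algebraMap K P.SplittingField)).Splits :=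
      Polynomial.IsSplittingField.splits P.SplittingField P
    refine h1.of_dvd (Polynomial.map_ne_zero hP0) ?_
    exact Polynomial.map_dvd _ (Finset.dvd_prod_of_mem Q (Finset.mem_univ i))

/-- Core computation: if `L` is a quotient of a ring generated by `E` and `F` over `K`, and the
separable part of `E/K` is generated by a root of a polynomial splitting in `F`, then `L/F` is
purely inseparable. -/
theorem pihom_of_generated {K E F L T : Type*} [Field K] [Field E] [Field F] [Field L]
    [CommRing T] (φ : K →+* E) (ψ : K →+* F) (α : E →+* L) (β : F →+* L) (inl : E →+* T)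
    (inr : F →+* T) (d : T →+* L) (hd : Function.Surjective d) (h1 : ∀ e, d (inl e) = α e)
    (h2 : ∀ c, d (inr c) = β c)
    (hgenT : ∀ R' : Subring T, (∀ e, inl e ∈ R') → (∀ c, inr c ∈ R') → ∀ z, z ∈ R')
    (hcond : ∀ c, α (φ c) = β (ψ c)) (q : ℕ) [ExpChar F q] (θ : E) (Q : K[X]) (hQ0 : Q ≠ 0)
    (hroot : Q.eval₂ φ θ = 0) (hsplit : (Q.map ψ).Splits)
    (hgen : ∀ R' : Subring E, (∀ c, φ c ∈ R') → θ ∈ R' → ∀ e, ∃ n : ℕ, e ^ q ^ n ∈ R') :
    PIhom q β := by
  intro b
  obtain ⟨z, rfl⟩ := hd b
  let _ : Algebra F L := β.toAlgebra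
  let PC : Subring L := (perfectClosure F L).toSubring
  have hPC : ∀ e : L, e ∈ PC ↔ ∃ n : ℕ, e ^ q ^ n ∈ β.range := fun e =>
    mem_perfectClosure_iff_pow_mem q
  let R' : Subring T := PC.comap d
  have hz : z ∈ R' := by
    refine hgenT R' ?_ ?_ z
    · intro e
      show d (inl e) ∈ PC
      rw [h1, hPC]
      let R'' : Subring E := β.range.comap α
      obtain ⟨n, hn⟩ := hgen R'' (fun c => ⟨ψ c, (hcond c).symm⟩) (by
        show α θ ∈ β.range
        refine hsplit.mem_range_of_isRoot (Polynomial.map_ne_zero hQ0) ?_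
        rw [Polynomial.IsRoot.def, Polynomial.map_map, Polynomial.eval_map]
        have h3 : β.comp ψ = α.comp φ := by
          ext c
          exact (hcond c).symm
        rw [h3, ← Polynomial.hom_eval₂, hroot, map_zero]) e
      refine ⟨n, ?_⟩
      rw [← map_pow]
      exact hn
    · intro c
      show d (inr c) ∈ PC
      rw [h2, hPC]
      exact ⟨0, c, by simp⟩
  exact (hPC _).1 hz

/-- A quasi-finite local homomorphism of local rings induces a finite residue field extension. -/
theorem finite_residueField_map_of_quasiFinite {R S : Type*} [CommRing R] [CommRing S]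
    [IsLocalRing R] [IsLocalRing S] (φ : R →+* S) [IsLocalHom φ] (h : φ.QuasiFinite) :
    (IsLocalRing.ResidueField.map φ).Finite := by
  have h1 : (IsLocalRing.residue S).QuasiFinite :=
    RingHom.QuasiFinite.of_finite (RingHom.Finite.of_surjective _ Ideal.Quotient.mk_surjective)
  have h2 : ((IsLocalRing.residue S).comp φ).QuasiFinite := h1.comp h
  have h3 : (IsLocalRing.residue S).comp φ =
      (IsLocalRing.ResidueField.map φ).comp (IsLocalRing.residue R) := by
    ext r; rfl
  rw [h3] at h2
  have h4 : (IsLocalRing.ResidueField.map φ).QuasiFinite := h2.of_comp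
  algebraize [IsLocalRing.ResidueField.map φ]
  have : Module.Finite (IsLocalRing.ResidueField R) (IsLocalRing.ResidueField S) :=
    Module.Finite.of_quasiFinite
  exact RingHom.finite_algebraMap.mpr this

end Groth.Agent.Lib.Helper6.EtLoc
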