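import Mathlib

/-!
# Residue fields of points of fibre products
-/

set_option autoImplicit false
set_option linter.unusedSectionVars false
universe u

open CategoryTheory Limits AlgebraicGeometry

namespace Groth.Agent.Lib.Helper6.EtLoc

open Scheme.Pullback

variable {X Y S : Scheme.{u}} {f : X ⟶ S} {g : Y ⟶ S}

theorem surjective_residueFieldMap_congr {X Y : Scheme.{u}} (f : X ⟶ Y) {x₁ x₂ : X}
    (e : x₁ = x₂) :
    Function.Surjective (f.residueFieldMap x₁) ↔ Function.Surjective (f.residueFieldMap x₂) := by
  subst e; rfl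

theorem surj_comp {A B C : CommRingCat.{u}} (φ : A ⟶ B) (ψ : B ⟶ C)
    (h1 : Function.Surjective φ) (h2 : Function.Surjective ψ) : Function.Surjective (φ ≫ ψ) := by
  intro c
  obtain ⟨b, rfl⟩ := h2 c
  obtain ⟨a, rfl⟩ := h1 b
  exact ⟨a, rfl⟩

theorem surj_of_comp {A B C : CommRingCat.{u}} (φ : A ⟶ B) (ψ : B ⟶ C)
    (h : Function.Surjective (φ ≫ ψ)) : Function.Surjective ψ := by
  intro c
  obtain ⟨a, rfl⟩ := h c
  exact ⟨φ a, rfl⟩

theorem surj_of_isIso {A B : CommRingCat.{u}} (φ : A ⟶ B) [IsIso φ] : Function.Surjective φ :=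
  ((ConcreteCategory.isIso_iff_bijective φ).mp inferInstance).2

theorem isIso_of_surjective_field {K L : CommRingCat.{u}} (hK : IsField K) [Nontrivial L]
    (φ : K ⟶ L) (h : Function.Surjective φ) : IsIso φ := by
  have : IsSimpleRing K := (isSimpleRing_iff_isField _).mpr hK
  exact (ConcreteCategory.isIso_iff_bijective φ).mpr ⟨φ.hom.injective, h⟩

/-- The comparison map `κ(x) ⊗ κ(y) ⟶ κ(t)` is surjective when the point of the tensor product
is a maximal ideal. -/
theorem ofPointTensor_surjective_aux (T : Triplet f g) (p : Spec T.tensor)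
    (hp : p.asIdeal.IsMaximal) :
    Function.Surjective (ofPointTensor (T.SpecTensorTo p)) := by
  have h1 := Triplet.Spec_ofPointTensor_SpecTensorTo T p
  rw [← Scheme.Spec.map_residueFieldIso_inv_eq_fromSpecResidueField, ← Spec.map_comp,
    ← Spec.map_comp, ← Spec.map_comp, Spec.map_inj] at h1
  -- `h1 : (c ≫ θ) ≫ ρ = algebraMap ≫ iso.inv`
  have hsurj : Function.Surjective
      (CommRingCat.ofHom (algebraMap T.tensor p.asIdeal.ResidueField) ≫
        (Scheme.Spec.residueFieldIso T.tensor p).inv) :=
    surj_comp _ _ (Ideal.algebraMap_residueField_surjective p.asIdeal) (surj_of_isIso _)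
  rw [← h1] at hsurj
  have hρs := surj_of_comp _ _ hsurj
  have hρiso : IsIso (Scheme.Hom.residueFieldMap T.SpecTensorTo p) :=
    isIso_of_surjective_field (Field.toIsField _) _ hρs
  have h2 : (Triplet.tensorCongr (T.ofPoint_SpecTensorTo p).symm).hom ≫
      ofPointTensor (T.SpecTensorTo p) =
      (CommRingCat.ofHom (algebraMap T.tensor p.asIdeal.ResidueField) ≫
        (Scheme.Spec.residueFieldIso T.tensor p).inv) ≫
          inv (Scheme.Hom.residueFieldMap T.SpecTensorTo p) := by
    rw [← h1]; simp
  have h3 : Function.Surjective ((Triplet.tensorCongr (T.ofPoint_SpecTensorTo p).symm).hom ≫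
      ofPointTensor (T.SpecTensorTo p)) := by
    rw [h2]
    exact surj_comp _ _ (surj_comp _ _ (Ideal.algebraMap_residueField_surjective p.asIdeal) (surj_of_isIso _))
      (surj_of_isIso _)
  exact surj_of_comp _ _ h3

theorem ofPointTensor_surjective (t : ↑(pullback f g))
    (h : ∀ p : Spec (Triplet.ofPoint t).tensor, p.asIdeal.IsMaximal) :
    Function.Surjective (ofPointTensor t) := by
  have key : ∀ (T : Triplet f g) (p : Spec T.tensor) (t : ↑(pullback f g)),
      T.SpecTensorTo p = t → p.asIdeal.IsMaximal → Function.Surjective (ofPointTensor t) := by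
    intro T p t ht
    subst ht
    exact ofPointTensor_surjective_aux T p
  exact key (Triplet.ofPoint t) (SpecOfPoint t) t (SpecTensorTo_SpecOfPoint t) (h _)


theorem isMaximal_of_isField {R : Type*} [CommRing R] (h : IsField R) (p : Ideal R)
    (hp : p.IsPrime) : p.IsMaximal := by
  have := Ring.isField_iff_isSimpleOrder_ideal.mp h
  refine Ideal.isMaximal_def.mpr ⟨hp.ne_top, fun q hq => ?_⟩
  rcases eq_bot_or_eq_top q with h | h
  · exact absurd (h ▸ hq) not_lt_bot
  · exact h

theorem subsingleton_primeSpectrum_of_isField {R : Type*} [CommRing R] (h : IsField R) :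
    Subsingleton (PrimeSpectrum R) := by
  have := Ring.isField_iff_isSimpleOrder_ideal.mp h
  refine ⟨fun p q => PrimeSpectrum.ext ?_⟩
  rcases eq_bot_or_eq_top p.asIdeal with hp | hp
  · rcases eq_bot_or_eq_top q.asIdeal with hq | hq
    · rw [hp, hq]
    · exact absurd hq q.isPrime.ne_top
  · exact absurd hp p.isPrime.ne_top

/-- If `κ(s) ⟶ κ(y)` is surjective then `κ(x) ⊗ κ(y)` is a field. -/
theorem isField_tensor (T : Triplet f g) (h : Function.Surjective (g.residueFieldMap T.y)) :
    IsIso T.tensorInl ∧ IsField T.tensor := by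
  have h1 : IsIso (g.residueFieldMap T.y) := isIso_of_surjective_field (Field.toIsField _) _ h
  have h2 : IsIso ((S.residueFieldCongr T.hy).inv ≫ g.residueFieldMap T.y) := inferInstance
  have h3 : IsIso T.tensorInl := by
    unfold Triplet.tensorInl
    exact pushout_inl_iso_of_right_iso _ _
  refine ⟨h3, ?_⟩
  exact (asIso T.tensorInl).commRingCatIsoToRingEquiv.symm.toMulEquiv.isField
    (Field.toIsField (X.residueField T.x))

/-- Trivial residue field extension on one side gives a surjection of residue fields on the
other projection. -/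
theorem surjective_fst_residueFieldMap (t : ↑(pullback f g))
    (h : Function.Surjective (g.residueFieldMap (pullback.snd f g t))) :
    Function.Surjective ((pullback.fst f g).residueFieldMap t) := by
  obtain ⟨h3, hF⟩ := isField_tensor (Triplet.ofPoint t) h
  have h4 : (pullback.fst f g).residueFieldMap t =
      (Triplet.ofPoint t).tensorInl ≫ ofPointTensor t :=
    (pushout.inl_desc _ _ (residueFieldCongr_inv_residueFieldMap_ofPoint t)).symm
  rw [h4]
  exact surj_comp _ _ (@surj_of_isIso _ _ _ h3)
    (ofPointTensor_surjective t fun p => isMaximal_of_isField hF _ p.isPrime)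

/-- Trivial residue field extension on one side: a point of the fibre product is determined by
its projections. -/
theorem eq_of_fst_eq_snd_eq (t t' : ↑(pullback f g))
    (h1 : pullback.fst f g t = pullback.fst f g t') (h2 : pullback.snd f g t = pullback.snd f g t')
    (h : Function.Surjective (g.residueFieldMap (pullback.snd f g t'))) : t = t' := by
  obtain ⟨-, hF⟩ := isField_tensor (Triplet.ofPoint t') h
  have := subsingleton_primeSpectrum_of_isField hF
  apply (carrierEquiv (f := f) (g := g)).injective
  show (⟨Triplet.ofPoint t, SpecOfPoint t⟩ : Σ T : Triplet f g, Spec T.tensor) =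
    ⟨Triplet.ofPoint t', SpecOfPoint t'⟩
  rw [carrierEquiv_eq_iff]
  exact ⟨Triplet.ext h1 h2, Subsingleton.elim (α := PrimeSpectrum _) _ _⟩

/-- Residue field map of a composition, in terms of surjectivity. -/
theorem surjective_residueFieldMap_comp {X Y Z : Scheme.{u}} (f : X ⟶ Y) (g : Y ⟶ Z) (x : X)
    (hf : Function.Surjective (f.residueFieldMap x))
    (hg : Function.Surjective (g.residueFieldMap (f x))) :
    Function.Surjective ((f ≫ g).residueFieldMap x) := by
  rw [Scheme.residueFieldMap_comp]
  exact surj_comp _ _ hg hf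

end Groth.Agent.Lib.Helper6.EtLoc
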