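import Mathlib
import Groth.Agent.Lib.Helper6.EtLoc.PIField
import Groth.Agent.Lib.Helper6.EtLoc.ResField
import Groth.Agent.Lib.Helper6.EtLoc.Chart
import Groth.Agent.Lib.Helper6.EtLoc.ResExtSch

/-!
# Purely inseparable residue field extensions at points of a base change
-/

set_option autoImplicit false
set_option linter.unusedSectionVars false
universe u

open CategoryTheory Limits AlgebraicGeometry Polynomial
open AlgebraicGeometry.Scheme.Pullback

namespace Groth.Agent.Lib.Helper6.EtLoc

/-- A pushout of commutative rings is generated by the images of the two coprojections. -/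
theorem pushout_mem_of_subring {A B C : CommRingCat.{u}} (φ : A ⟶ B) (ψ : A ⟶ C)
    (R' : Subring ↑(pushout φ ψ)) (h1 : ∀ b, (pushout.inl φ ψ).hom b ∈ R')
    (h2 : ∀ c, (pushout.inr φ ψ).hom c ∈ R') (z : ↑(pushout φ ψ)) : z ∈ R' := by
  let P : CommRingCat.{u} := CommRingCat.of R'
  let ι : P ⟶ pushout φ ψ := CommRingCat.ofHom R'.subtype
  let a : B ⟶ P := CommRingCat.ofHom ((pushout.inl φ ψ).hom.codRestrict R' h1)
  let b : C ⟶ P := CommRingCat.ofHom ((pushout.inr φ ψ).hom.codRestrict R' h2)
  have hab : φ ≫ a = ψ ≫ b := by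
    ext r
    exact congrArg (fun m : A ⟶ pushout φ ψ => m.hom r) pushout.condition
  let d : pushout φ ψ ⟶ P := pushout.desc a b hab
  have hd : d ≫ ι = 𝟙 _ := by
    apply pushout.hom_ext
    · rw [pushout.inl_desc_assoc, Category.comp_id]; rfl
    · rw [pushout.inr_desc_assoc, Category.comp_id]; rfl
  have hz : ι.hom (d.hom z) = z := congrArg (fun m : pushout φ ψ ⟶ pushout φ ψ => m.hom z) hd
  rw [← hz]
  exact (d.hom z).2

theorem pushout_inr_finite {A B C : CommRingCat.{u}} (φ : A ⟶ B) (ψ : A ⟶ C)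
    (h : φ.hom.Finite) : (pushout.inr φ ψ).hom.Finite := by
  have h1 : (pushout.inl ψ φ).hom.Finite :=
    RingHom.finite_isStableUnderBaseChange.pushout_inl RingHom.finite_respectsIso ψ φ h
  have h2 : pushout.inr φ ψ = pushout.inl ψ φ ≫ (pushoutSymmetry ψ φ).hom :=
    (inl_comp_pushoutSymmetry_hom ψ φ).symm
  rw [h2, CommRingCat.hom_comp, RingHom.finite_respectsIso.cancel_right_isIso]
  exact h1

variable {X Y S : Scheme.{u}} {f : X ⟶ S} {g : Y ⟶ S}

theorem tensorInr_finite (T : Triplet f g)
    (h : ((S.residueFieldCongr T.hx).inv ≫ f.residueFieldMap T.x).hom.Finite) :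
    T.tensorInr.hom.Finite :=
  pushout_inr_finite _ _ h

theorem tensor_isMaximal (T : Triplet f g)
    (h : ((S.residueFieldCongr T.hx).inv ≫ f.residueFieldMap T.x).hom.Finite)
    (p : Spec T.tensor) : p.asIdeal.IsMaximal := by
  have h1 := tensorInr_finite T h
  have : p.asIdeal.IsPrime := p.isPrime
  exact Ideal.isMaximal_of_isIntegral_of_isMaximal_comap' T.tensorInr.hom h1.to_isIntegral
    p.asIdeal (isMaximal_of_isField (Field.toIsField _) _ (Ideal.comap_isPrime _ _))

theorem tensor_finite_spec (T : Triplet f g)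
    (h : ((S.residueFieldCongr T.hx).inv ≫ f.residueFieldMap T.x).hom.Finite) :
    Finite (PrimeSpectrum T.tensor) := by
  have h1 := tensorInr_finite T h
  algebraize [T.tensorInr.hom]
  have : IsArtinianRing T.tensor := IsArtinianRing.of_finite (Y.residueField T.y) T.tensor
  infer_instance

/-- Core residue field computation: if the separable part of `κ(x)/κ(s)` is generated by a root
of a polynomial that splits in `κ(y)`, then `κ(t)/κ(y)` is purely inseparable for `t` over
`(x, y)`. -/
theorem pihom_snd_ofPoint (t : ↑(pullback f g)) (q : ℕ)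
    [ExpChar ↑(Y.residueField (Triplet.ofPoint t).y) q]
    (hfin : ((S.residueFieldCongr (Triplet.ofPoint t).hx).inv ≫
      f.residueFieldMap (Triplet.ofPoint t).x).hom.Finite)
    (θ : ↑(X.residueField (Triplet.ofPoint t).x))
    (Q : (↑(S.residueField (Triplet.ofPoint t).s))[X]) (hQ0 : Q ≠ 0)
    (hroot : Q.eval₂ ((S.residueFieldCongr (Triplet.ofPoint t).hx).inv ≫
      f.residueFieldMap (Triplet.ofPoint t).x).hom θ = 0)
    (hsplit : (Q.map ((S.residueFieldCongr (Triplet.ofPoint t).hy).inv ≫
      g.residueFieldMap (Triplet.ofPoint t).y).hom).Splits)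
    (hgen : ∀ R' : Subring ↑(X.residueField (Triplet.ofPoint t).x),
      (∀ c, ((S.residueFieldCongr (Triplet.ofPoint t).hx).inv ≫
        f.residueFieldMap (Triplet.ofPoint t).x).hom c ∈ R') → θ ∈ R' →
      ∀ e, ∃ n : ℕ, e ^ q ^ n ∈ R') :
    PIhom q ((pullback.snd f g).residueFieldMap t).hom := by
  have h_inl : (Triplet.ofPoint t).tensorInl ≫ ofPointTensor t =
      (pullback.fst f g).residueFieldMap t :=
    pushout.inl_desc _ _ _
  have h_inr : (Triplet.ofPoint t).tensorInr ≫ ofPointTensor t =
      (pullback.snd f g).residueFieldMap t :=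
    pushout.inr_desc _ _ _
  have hcond := residueFieldCongr_inv_residueFieldMap_ofPoint t
  refine pihom_of_generated
    ((S.residueFieldCongr (Triplet.ofPoint t).hx).inv ≫
      f.residueFieldMap (Triplet.ofPoint t).x).hom
    ((S.residueFieldCongr (Triplet.ofPoint t).hy).inv ≫
      g.residueFieldMap (Triplet.ofPoint t).y).hom
    ((pullback.fst f g).residueFieldMap t).hom
    ((pullback.snd f g).residueFieldMap t).hom
    (Triplet.ofPoint t).tensorInl.hom (Triplet.ofPoint t).tensorInr.hom (ofPointTensor t).hom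
    (ofPointTensor_surjective t (fun p => tensor_isMaximal (Triplet.ofPoint t) hfin p))
    (fun e => congrArg (fun m : X.residueField (Triplet.ofPoint t).x ⟶
      (pullback f g).residueField t => m.hom e) h_inl)
    (fun c => congrArg (fun m : Y.residueField (Triplet.ofPoint t).y ⟶
      (pullback f g).residueField t => m.hom c) h_inr)
    (fun R' h1 h2 z => pushout_mem_of_subring _ _ R' h1 h2 z)
    (fun c => congrArg (fun m : S.residueField (Triplet.ofPoint t).s ⟶
      (pullback f g).residueField t => m.hom c) hcond)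
    q θ Q hQ0 hroot hsplit hgen

/-- Version of `pihom_snd_ofPoint` with propositional equalities for the points. -/
theorem pihom_snd_of_eq (t : ↑(pullback f g)) (x : X) (y : Y) (s : S)
    (hx : pullback.fst f g t = x) (hy : pullback.snd f g t = y) (hfx : f x = s) (hgy : g y = s)
    (q : ℕ) [ExpChar ↑(S.residueField s) q]
    (hfin : ((S.residueFieldCongr hfx).inv ≫ f.residueFieldMap x).hom.Finite)
    (θ : ↑(X.residueField x)) (Q : (↑(S.residueField s))[X]) (hQ0 : Q ≠ 0)
    (hroot : Q.eval₂ ((S.residueFieldCongr hfx).inv ≫ f.residueFieldMap x).hom θ = 0)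
    (hsplit : (Q.map ((S.residueFieldCongr hgy).inv ≫ g.residueFieldMap y).hom).Splits)
    (hgen : ∀ R' : Subring ↑(X.residueField x),
      (∀ c, ((S.residueFieldCongr hfx).inv ≫ f.residueFieldMap x).hom c ∈ R') → θ ∈ R' →
      ∀ e, ∃ n : ℕ, e ^ q ^ n ∈ R') :
    PIhom q ((pullback.snd f g).residueFieldMap t).hom := by
  subst hx hy hfx
  have : ExpChar ↑(Y.residueField (Triplet.ofPoint t).y) q :=
    expChar_of_injective_ringHom
      ((S.residueFieldCongr hgy).inv ≫ g.residueFieldMap _).hom.injective q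
  exact pihom_snd_ofPoint t q hfin θ Q hQ0 hroot hsplit hgen

/-- Quasi-finiteness at a point gives a finite residue field extension. -/
theorem finite_residueFieldMap_of_quasiFiniteAt {X S : Scheme.{u}} (f : X ⟶ S) (x : X)
    (h : f.QuasiFiniteAt x) : (f.residueFieldMap x).hom.Finite :=
  finite_residueField_map_of_quasiFinite (f.stalkMap x).hom h

theorem finite_residueFieldMap_of_quasiFiniteAt' {X S : Scheme.{u}} (f : X ⟶ S) (x : X) (s : S)
    (hfx : f x = s) (h : f.QuasiFiniteAt x) :
    ((S.residueFieldCongr hfx).inv ≫ f.residueFieldMap x).hom.Finite := by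
  subst hfx
  rw [CommRingCat.hom_comp, RingHom.finite_respectsIso.cancel_left_isIso]
  exact finite_residueFieldMap_of_quasiFiniteAt f x h

/-- Quasi-finiteness at a point is stable under base change. -/
theorem quasiFiniteAt_snd {X Y S : Scheme.{u}} (f : X ⟶ S) [LocallyOfFiniteType f] (g : Y ⟶ S)
    (t : ↑(pullback f g)) (h : f.QuasiFiniteAt (pullback.fst f g t)) :
    (pullback.snd f g).QuasiFiniteAt t := by
  have htV : t ∈ (pullback.fst f g) ⁻¹ᵁ f.quasiFiniteLocus := h
  have h1 : IsPullback ((pullback.fst f g) ∣_ f.quasiFiniteLocus)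
      ((pullback.fst f g) ⁻¹ᵁ f.quasiFiniteLocus).ι f.quasiFiniteLocus.ι (pullback.fst f g) :=
    isPullback_morphismRestrict (pullback.fst f g) f.quasiFiniteLocus
  have h2 : IsPullback (pullback.fst f g) (pullback.snd f g) f g := IsPullback.of_hasPullback f g
  have h3 : IsPullback ((pullback.fst f g) ∣_ f.quasiFiniteLocus)
      (((pullback.fst f g) ⁻¹ᵁ f.quasiFiniteLocus).ι ≫ pullback.snd f g)
      (f.quasiFiniteLocus.ι ≫ f) g :=
    h1.paste_vert h2
  have h0 : LocallyQuasiFinite (f.quasiFiniteLocus.ι ≫ f) := inferInstance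
  have h4 : LocallyQuasiFinite
      (((pullback.fst f g) ⁻¹ᵁ f.quasiFiniteLocus).ι ≫ pullback.snd f g) :=
    MorphismProperty.of_isPullback (P := @LocallyQuasiFinite) h3 h0
  have h5 : (((pullback.fst f g) ⁻¹ᵁ f.quasiFiniteLocus).ι ≫ pullback.snd f g).QuasiFiniteAt
      (⟨t, htV⟩ : ((pullback.fst f g) ⁻¹ᵁ f.quasiFiniteLocus).toScheme) :=
    Scheme.Hom.quasiFiniteAt _ _
  have h6 := Scheme.Hom.quasiFiniteAt_comp_iff_of_isOpenImmersion.mp h5
  have e : ((pullback.fst f g) ⁻¹ᵁ f.quasiFiniteLocus).ι ⟨t, htV⟩ = t := rfl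
  rw [e] at h6
  exact h6

/-- Finitely many points of a fibre product over a pair of points with finite residue field
extension. -/
theorem finite_points_over (x : X) (y : Y) (s : S) (hfx : f x = s) (hgy : g y = s)
    (hfin : ((S.residueFieldCongr hfx).inv ≫ f.residueFieldMap x).hom.Finite) :
    {t : ↑(pullback f g) | pullback.fst f g t = x ∧ pullback.snd f g t = y}.Finite := by
  let T₀ : Triplet f g := ⟨x, y, s, hfx, hgy⟩
  have hF : Finite (PrimeSpectrum T₀.tensor) := tensor_finite_spec T₀ hfin
  have h1 : (Set.range (fun p : Spec T₀.tensor =>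
      (⟨T₀, p⟩ : Σ T : Triplet f g, Spec T.tensor))).Finite := by
    have : Finite ↥(Spec T₀.tensor) := hF
    exact Set.finite_range _
  refine (h1.preimage (Set.injOn_of_injective (carrierEquiv (f := f) (g := g)).injective)).subset ?_
  rintro t ⟨ht1, ht2⟩
  have hT : Triplet.ofPoint t = T₀ := Triplet.ext ht1 ht2
  show (⟨Triplet.ofPoint t, SpecOfPoint t⟩ : Σ T : Triplet f g, Spec T.tensor) ∈
    Set.range (fun p : Spec T₀.tensor => (⟨T₀, p⟩ : Σ T : Triplet f g, Spec T.tensor))
  generalize SpecOfPoint t = p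
  revert p
  rw [hT]
  intro p
  exact ⟨p, rfl⟩

theorem PIhom_congr_point {A B : Scheme.{u}} (m : A ⟶ B) {w w' : A} (e : w = w') (q : ℕ) :
    PIhom q (m.residueFieldMap w).hom ↔ PIhom q (m.residueFieldMap w').hom := by
  subst e; rfl

theorem mem_range_residueFieldMap_of_eq {A D : Scheme.{u}} {m m' : A ⟶ D} (h : m = m') (w : A)
    (t : ↑(D.residueField (m w))) :
    (m.residueFieldMap w).hom t ∈ (m'.residueFieldMap w).hom.range := by
  subst h
  exact ⟨t, rfl⟩

theorem residueFieldMap_comp_apply {A B D : Scheme.{u}} (a : A ⟶ B) (b : B ⟶ D) (w : A)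
    (t : ↑(D.residueField (b (a w)))) :
    ((a ≫ b).residueFieldMap w).hom t =
      (a.residueFieldMap w).hom ((b.residueFieldMap (a w)).hom t) := by
  have h := Scheme.residueFieldMap_comp a b w
  exact congrArg (fun m : D.residueField ((a ≫ b) w) ⟶ A.residueField w => m.hom t) h

/-- Transfer of pure inseparability of residue field extensions along a commutative square whose
upper horizontal map induces a surjection of residue fields. -/
theorem pihom_of_square {A B C D : Scheme.{u}} (a : A ⟶ B) (b : B ⟶ D) (c : A ⟶ C) (d : C ⟶ D)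
    (hsq : a ≫ b = c ≫ d) (w : A) (q : ℕ)
    (hsurj : Function.Surjective (a.residueFieldMap w))
    (hpi : PIhom q (b.residueFieldMap (a w)).hom) : PIhom q (c.residueFieldMap w).hom := by
  intro e
  obtain ⟨e', rfl⟩ := hsurj e
  obtain ⟨n, t, ht⟩ := hpi e'
  refine ⟨n, ?_⟩
  have h1 : (a.residueFieldMap w).hom e' ^ q ^ n =
      ((a ≫ b).residueFieldMap w).hom t := by
    rw [residueFieldMap_comp_apply, ht, map_pow]
  have h2 : (a.residueFieldMap w).hom e' ^ q ^ n ∈ ((c ≫ d).residueFieldMap w).hom.range := by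
    rw [h1]
    exact mem_range_residueFieldMap_of_eq hsq w t
  obtain ⟨t', ht'⟩ := h2
  have h3 := residueFieldMap_comp_apply c d w t'
  exact ⟨_, h3.symm.trans ht'⟩

/-- Étale neighbourhood after which all points over the given quasi-finite points have purely
inseparable residue field extensions. -/
theorem exists_pi_nbhd {X S : Scheme.{u}} (f : X ⟶ S) [LocallyOfFiniteType f] (s : S)
    {ι : Type} [Finite ι] (x : ι → X) (hs : ∀ i, f (x i) = s) (hx : ∀ i, f.QuasiFiniteAt (x i))
    (q : ℕ) [ExpChar ↑(S.residueField s) q] :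
    ∃ (U : Scheme.{u}) (g : U ⟶ S) (u : U), Etale g ∧ g u = s ∧
      (∀ t : ↑(pullback f g), pullback.snd f g t = u → (∃ i, pullback.fst f g t = x i) →
        PIhom q ((pullback.snd f g).residueFieldMap t).hom) ∧
      {t : ↑(pullback f g) | pullback.snd f g t = u ∧ ∃ i, pullback.fst f g t = x i}.Finite := by
  have hfin : ∀ i, ((S.residueFieldCongr (hs i)).inv ≫ f.residueFieldMap (x i)).hom.Finite :=
    fun i => finite_residueFieldMap_of_quasiFiniteAt' f (x i) s (hs i) (hx i)
  choose θ Q hQsep hroot hgen using fun i =>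
    exists_sep_gen' ((S.residueFieldCongr (hs i)).inv ≫ f.residueFieldMap (x i)).hom (hfin i) q
  obtain ⟨k, _, _, hkfin, hksep, hksplit⟩ := exists_splitting ↑(S.residueField s) Q hQsep
  obtain ⟨U, g, u, hu, hg, ⟨e⟩⟩ := exists_etale_nbhd_residueField S s k
  have hsplit' : ∀ i, ((Q i).map ((S.residueFieldCongr hu).inv ≫ g.residueFieldMap u).hom).Splits := by
    intro i
    let _ : Algebra ↑(S.residueField s) ↑(U.residueField u) :=
      ((S.residueFieldCongr hu).inv ≫ g.residueFieldMap u).hom.toAlgebra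
    exact (hksplit i).of_algHom e.toAlgHom
  refine ⟨U, g, u, hg, hu, ?_, ?_⟩
  · rintro t ht ⟨i, hi⟩
    exact pihom_snd_of_eq t (x i) u s hi ht (hs i) hu q (hfin i) (θ i) (Q i) (hQsep i).ne_zero
      (hroot i) (hsplit' i) (hgen i)
  · have h1 : {t : ↑(pullback f g) | pullback.snd f g t = u ∧ ∃ i, pullback.fst f g t = x i} ⊆
        ⋃ i, {t : ↑(pullback f g) | pullback.fst f g t = x i ∧ pullback.snd f g t = u} := by
      rintro t ⟨ht, i, hi⟩
      exact Set.mem_iUnion.mpr ⟨i, hi, ht⟩
    exact (Set.finite_iUnion fun i => finite_points_over (x i) u s (hs i) hu (hfin i)).subset h1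

end Groth.Agent.Lib.Helper6.EtLoc
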