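import Mathlib

/-!
# The unramified locus commutes with arbitrary base change (ring level)
-/

set_option autoImplicit false
universe u

open TensorProduct

namespace Groth.Agent.Lib.Helper6.EtLoc

attribute [local instance] Algebra.TensorProduct.rightAlgebra

/-- Vanishing of the fibre of a module at a residue field can be checked after a field
extension. -/
theorem subsingleton_residueField_tensor_of_map {B B' : Type u} [CommRing B] [CommRing B']
    [Algebra B B'] (N : Type u) [AddCommGroup N] [Module B N] (q' : Ideal B') [q'.IsPrime]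
    (h : Subsingleton (q'.ResidueField ⊗[B'] (B' ⊗[B] N))) :
    Subsingleton ((q'.comap (algebraMap B B')).ResidueField ⊗[B] N) := by
  let q := q'.comap (algebraMap B B')
  let K := q.ResidueField
  let K' := q'.ResidueField
  let _ : Algebra K K' := (Ideal.ResidueField.map q q' (algebraMap B B') rfl).toAlgebra
  have : IsScalarTower B K K' := IsScalarTower.of_algebraMap_eq fun b => by
    show algebraMap B K' b = Ideal.ResidueField.map q q' (algebraMap B B') rfl (algebraMap B K b)
    rw [IsScalarTower.algebraMap_apply B B' K']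
    simp [K, K']
  let e1 : K' ⊗[B'] (B' ⊗[B] N) ≃ₗ[K'] K' ⊗[B] N :=
    AlgebraTensorModule.cancelBaseChange B B' K' K' N
  let e2 : K' ⊗[K] (K ⊗[B] N) ≃ₗ[K'] K' ⊗[B] N :=
    AlgebraTensorModule.cancelBaseChange B K K' K' N
  have h1 : Subsingleton (K' ⊗[B] N) := e1.symm.toEquiv.injective.subsingleton
  have h2 : Subsingleton (K' ⊗[K] (K ⊗[B] N)) := e2.toEquiv.injective.subsingleton
  exact Module.FaithfullyFlat.lTensor_reflects_triviality K K' (K ⊗[B] N)

variable {R R' B : Type u} [CommRing R] [CommRing R'] [CommRing B] [Algebra R R'] [Algebra R B]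

/-- The unramified locus commutes with arbitrary base change (one inclusion). -/
theorem unramifiedLocus_of_baseChange [Algebra.FiniteType R B] (q' : Ideal (R' ⊗[R] B))
    [hq' : q'.IsPrime]
    (h : (⟨q', hq'⟩ : PrimeSpectrum (R' ⊗[R] B)) ∈ Algebra.unramifiedLocus R' (R' ⊗[R] B)) :
    (⟨q'.comap (Algebra.TensorProduct.includeRight : B →ₐ[R] R' ⊗[R] B).toRingHom,
      inferInstance⟩ : PrimeSpectrum B) ∈ Algebra.unramifiedLocus R B := by
  rw [Algebra.unramifiedLocus_eq_compl_support, Set.mem_compl_iff] at h ⊢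
  rw [Module.mem_support_iff_nontrivial_residueField_tensorProduct,
    not_nontrivial_iff_subsingleton] at h ⊢
  have e := (KaehlerDifferential.tensorKaehlerEquiv R R' B (R' ⊗[R] B))
  have h1 : Subsingleton (q'.ResidueField ⊗[R' ⊗[R] B] ((R' ⊗[R] B) ⊗[B] Ω[B⁄R])) :=
    (TensorProduct.congr (LinearEquiv.refl _ _) e).toEquiv.injective.subsingleton
  exact subsingleton_residueField_tensor_of_map Ω[B⁄R] q' h1

theorem exists_away_formallyUnramified' [Algebra.FiniteType R B] (q' : Ideal (R' ⊗[R] B))
    [hq' : q'.IsPrime] (h : R' ⊗[R] B) (hh : h ∉ q')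
    (hun : Algebra.FormallyUnramified R' (Localization.Away h)) :
    ∃ b : B, b ∉ q'.comap (Algebra.TensorProduct.includeRight : B →ₐ[R] R' ⊗[R] B).toRingHom ∧
      Algebra.FormallyUnramified R (Localization.Away b) := by
  have h1 : (⟨q', hq'⟩ : PrimeSpectrum (R' ⊗[R] B)) ∈ Algebra.unramifiedLocus R' (R' ⊗[R] B) :=
    (Algebra.basicOpen_subset_unramifiedLocus_iff.mpr hun) hh
  have h2 := unramifiedLocus_of_baseChange q' h1
  have h3 : Algebra.IsUnramifiedAt R
      (q'.comap (Algebra.TensorProduct.includeRight : B →ₐ[R] R' ⊗[R] B).toRingHom) := h2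
  obtain ⟨b, hb, hb'⟩ := Algebra.exists_formallyUnramified_of_isUnramifiedAt (R := R)
    (q'.comap (Algebra.TensorProduct.includeRight : B →ₐ[R] R' ⊗[R] B).toRingHom)
  exact ⟨b, hb, hb'⟩

theorem exists_away_etale' [Algebra.FinitePresentation R B] [Module.Flat R B]
    (q' : Ideal (R' ⊗[R] B))
    [hq' : q'.IsPrime] (h : R' ⊗[R] B) (hh : h ∉ q')
    (hun : Algebra.FormallyUnramified R' (Localization.Away h)) :
    ∃ b : B, b ∉ q'.comap (Algebra.TensorProduct.includeRight : B →ₐ[R] R' ⊗[R] B).toRingHom ∧
      Algebra.Etale R (Localization.Away b) := by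
  obtain ⟨b, hb, hb'⟩ := exists_away_formallyUnramified' q' h hh hun
  refine ⟨b, hb, ?_⟩
  have : Module.Flat R (Localization.Away b) := Module.Flat.trans R B (Localization.Away b)
  have : Algebra.FinitePresentation R (Localization.Away b) :=
    Algebra.FinitePresentation.trans R B (Localization.Away b)
  exact Algebra.Etale.of_formallyUnramified_of_flat

end Groth.Agent.Lib.Helper6.EtLoc
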