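import Mathlib

/-!
# Pointwise descent of unramified / étale along flat base change (ring level)
-/

set_option autoImplicit false
set_option linter.unusedSectionVars false

open TensorProduct

namespace Groth.Agent.Lib.Helper6.EtLoc

section LemmaH

variable {R R' B : Type*} [CommRing R] [CommRing R'] [CommRing B] [Algebra R R'] [Algebra R B]
  [Module.Flat R R']
variable {N N' : Type*} [AddCommGroup N] [Module B N] [Module R N] [IsScalarTower R B N]
  [AddCommGroup N'] [Module (R' ⊗[R] B) N'] [Module R' N'] [IsScalarTower R' (R' ⊗[R] B) N']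

/-- Supports and flat base change: if `R' ⊗[R] N ↪ N'` compatibly with the module structures,
then a prime of `R' ⊗[R] B` outside the support of `N'` contracts to a prime outside the support
of `N`. -/
theorem notMem_support_of_flat_baseChange (φ : N →+ N')
    (hφ : ∀ (b : B) (n : N), φ (b • n) = ((1 : R') ⊗ₜ[R] b) • φ n)
    (Φ : R' ⊗[R] N →+ N') (hΦ : ∀ t n, Φ (t ⊗ₜ n) = t • φ n) (hΦi : Function.Injective Φ)
    (q' : Ideal (R' ⊗[R] B)) [hq' : q'.IsPrime]
    (h : (⟨q', hq'⟩ : PrimeSpectrum (R' ⊗[R] B)) ∉ Module.support (R' ⊗[R] B) N') :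
    (⟨q'.comap (Algebra.TensorProduct.includeRight : B →ₐ[R] R' ⊗[R] B).toRingHom,
      inferInstance⟩ : PrimeSpectrum B) ∉ Module.support B N := by
  rw [Module.notMem_support_iff'] at h ⊢
  intro n
  obtain ⟨τ, hτq, hτ⟩ := h (φ n)
  let μ : B →ₗ[R] N := (LinearMap.toSpanSingleton B N n).restrictScalars R
  have hμ : ∀ b, μ b = b • n := fun b => rfl
  have hex : Function.Exact (LinearMap.ker μ).subtype μ := LinearMap.exact_subtype_ker_map μ
  have hex' := Module.Flat.lTensor_exact R' hex
  have key : ∀ σ : R' ⊗[R] B, Φ ((LinearMap.lTensor R' μ) σ) = σ • φ n := by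
    intro σ
    induction σ using TensorProduct.induction_on with
    | zero => simp
    | tmul t b =>
      rw [LinearMap.lTensor_tmul, hΦ, hμ, hφ, ← algebraMap_smul (R' ⊗[R] B) t, ← mul_smul]
      congr 1
      simp [Algebra.TensorProduct.algebraMap_apply]
    | add x y hx hy => rw [map_add, map_add, hx, hy, add_smul]
  have h0 : (LinearMap.lTensor R' μ) τ = 0 := hΦi (by rw [key, hτ, map_zero])
  obtain ⟨ρ, hρ⟩ := (hex' τ).mp h0
  let I : Ideal B := LinearMap.ker (LinearMap.toSpanSingleton B N n)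
  have hI : ∀ ρ : R' ⊗[R] (LinearMap.ker μ),
      (LinearMap.lTensor R' (LinearMap.ker μ).subtype) ρ ∈
        I.map (Algebra.TensorProduct.includeRight : B →ₐ[R] R' ⊗[R] B).toRingHom := by
    intro ρ
    induction ρ using TensorProduct.induction_on with
    | zero => simp
    | tmul t i =>
      rw [LinearMap.lTensor_tmul]
      have h1 : t ⊗ₜ[R] (i : B) = (t ⊗ₜ[R] (1 : B)) *
          ((Algebra.TensorProduct.includeRight : B →ₐ[R] R' ⊗[R] B) i) := by simp
      rw [Submodule.subtype_apply, h1]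
      refine Ideal.mul_mem_left _ _ (Ideal.mem_map_of_mem _ ?_)
      exact i.2
    | add x y hx hy => rw [map_add]; exact add_mem hx hy
  have hτI : τ ∈ I.map (Algebra.TensorProduct.includeRight : B →ₐ[R] R' ⊗[R] B).toRingHom :=
    hρ ▸ hI ρ
  by_contra hcon
  push Not at hcon
  have hIq : I ≤ q'.comap (Algebra.TensorProduct.includeRight : B →ₐ[R] R' ⊗[R] B).toRingHom := by
    intro b hb
    by_contra hbq
    exact hcon b hbq hb
  exact hτq (Ideal.map_le_iff_le_comap.mpr hIq hτI)

end LemmaH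


section Apply

universe u

variable {R R' B : Type u} [CommRing R] [CommRing R'] [CommRing B] [Algebra R R'] [Algebra R B]
  [Module.Flat R R']

attribute [local instance] Algebra.TensorProduct.rightAlgebra

/-- Pointwise descent of formal unramifiedness along flat base change. -/
theorem unramifiedLocus_of_flat_baseChange (q' : Ideal (R' ⊗[R] B)) [hq' : q'.IsPrime]
    (h : (⟨q', hq'⟩ : PrimeSpectrum (R' ⊗[R] B)) ∈ Algebra.unramifiedLocus R' (R' ⊗[R] B)) :
    (⟨q'.comap (Algebra.TensorProduct.includeRight : B →ₐ[R] R' ⊗[R] B).toRingHom,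
      inferInstance⟩ : PrimeSpectrum B) ∈ Algebra.unramifiedLocus R B := by
  rw [Algebra.unramifiedLocus_eq_compl_support, Set.mem_compl_iff] at h ⊢
  refine notMem_support_of_flat_baseChange (R := R) (R' := R') (B := B) (N := Ω[B⁄R])
    (N' := Ω[(R' ⊗[R] B)⁄R'])
    (KaehlerDifferential.map R R' B (R' ⊗[R] B)).toAddMonoidHom ?_
    (KaehlerDifferential.tensorKaehlerEquivBase R R' B (R' ⊗[R] B)).toLinearMap.toAddMonoidHom
    ?_ ?_ q' h
  · intro b n
    show KaehlerDifferential.map R R' B (R' ⊗[R] B) (b • n) = _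
    rw [LinearMap.map_smul, ← algebraMap_smul (R' ⊗[R] B) b]
    rfl
  · intro t n
    exact KaehlerDifferential.tensorKaehlerEquivBase_tmul R R' B (R' ⊗[R] B) t n
  · exact (KaehlerDifferential.tensorKaehlerEquivBase R R' B (R' ⊗[R] B)).injective

/-- Pointwise descent of étaleness along flat base change. -/
theorem etaleLocus_of_flat_baseChange (q' : Ideal (R' ⊗[R] B)) [hq' : q'.IsPrime]
    (h : (⟨q', hq'⟩ : PrimeSpectrum (R' ⊗[R] B)) ∈ Algebra.etaleLocus R' (R' ⊗[R] B)) :
    (⟨q'.comap (Algebra.TensorProduct.includeRight : B →ₐ[R] R' ⊗[R] B).toRingHom,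
      inferInstance⟩ : PrimeSpectrum B) ∈ Algebra.etaleLocus R B := by
  rw [Algebra.etaleLocus_eq_compl_support] at h ⊢
  obtain ⟨h1, h2⟩ := h
  rw [Set.mem_compl_iff] at h1 h2
  refine ⟨?_, ?_⟩
  · have h3 : (⟨q', hq'⟩ : PrimeSpectrum (R' ⊗[R] B)) ∈
        Algebra.unramifiedLocus R' (R' ⊗[R] B) := by
      rw [Algebra.unramifiedLocus_eq_compl_support]; exact h1
    have h4 := unramifiedLocus_of_flat_baseChange q' h3
    rw [Algebra.unramifiedLocus_eq_compl_support] at h4
    exact h4
  · rw [Set.mem_compl_iff]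
    refine notMem_support_of_flat_baseChange (R := R) (R' := R') (B := B)
      (N := Algebra.H1Cotangent R B) (N' := Algebra.H1Cotangent R' (R' ⊗[R] B))
      (Algebra.H1Cotangent.map R R' B (R' ⊗[R] B)).toAddMonoidHom ?_
      (Algebra.tensorH1CotangentOfFlat R B R').toLinearMap.toAddMonoidHom
      ?_ ?_ q' h2
    · intro b n
      show Algebra.H1Cotangent.map R R' B (R' ⊗[R] B) (b • n) = _
      rw [LinearMap.map_smul, ← algebraMap_smul (R' ⊗[R] B) b]
      rfl
    · intro t n
      exact Algebra.tensorH1CotangentOfFlat_tmul R B R' t n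
    · exact (Algebra.tensorH1CotangentOfFlat R B R').injective


theorem exists_away_formallyUnramified [Algebra.EssFiniteType R B] (q' : Ideal (R' ⊗[R] B))
    [hq' : q'.IsPrime] (h : R' ⊗[R] B) (hh : h ∉ q')
    (hun : Algebra.FormallyUnramified R' (Localization.Away h)) :
    ∃ b : B, b ∉ q'.comap (Algebra.TensorProduct.includeRight : B →ₐ[R] R' ⊗[R] B).toRingHom ∧
      Algebra.FormallyUnramified R (Localization.Away b) := by
  have h1 : (⟨q', hq'⟩ : PrimeSpectrum (R' ⊗[R] B)) ∈ Algebra.unramifiedLocus R' (R' ⊗[R] B) :=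
    (Algebra.basicOpen_subset_unramifiedLocus_iff.mpr hun) hh
  have h2 := unramifiedLocus_of_flat_baseChange q' h1
  have h3 : Algebra.IsUnramifiedAt R
      (q'.comap (Algebra.TensorProduct.includeRight : B →ₐ[R] R' ⊗[R] B).toRingHom) := h2
  obtain ⟨b, hb, hb'⟩ := Algebra.exists_formallyUnramified_of_isUnramifiedAt (R := R)
    (q'.comap (Algebra.TensorProduct.includeRight : B →ₐ[R] R' ⊗[R] B).toRingHom)
  exact ⟨b, hb, hb'⟩

theorem exists_away_etale [Algebra.FinitePresentation R B] (q' : Ideal (R' ⊗[R] B))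
    [hq' : q'.IsPrime] (h : R' ⊗[R] B) (hh : h ∉ q')
    (het : Algebra.Etale R' (Localization.Away h)) :
    ∃ b : B, b ∉ q'.comap (Algebra.TensorProduct.includeRight : B →ₐ[R] R' ⊗[R] B).toRingHom ∧
      Algebra.Etale R (Localization.Away b) := by
  have h1 : (⟨q', hq'⟩ : PrimeSpectrum (R' ⊗[R] B)) ∈ Algebra.etaleLocus R' (R' ⊗[R] B) :=
    (Algebra.basicOpen_subset_etaleLocus_iff.mpr inferInstance) hh
  have h2 := etaleLocus_of_flat_baseChange q' h1
  have h3 : Algebra.IsEtaleAt R
      (q'.comap (Algebra.TensorProduct.includeRight : B →ₐ[R] R' ⊗[R] B).toRingHom) := h2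
  obtain ⟨b, hb, hb'⟩ := Algebra.exists_etale_of_isEtaleAt (R := R)
    (q'.comap (Algebra.TensorProduct.includeRight : B →ₐ[R] R' ⊗[R] B).toRingHom)
  exact ⟨b, hb, hb'⟩

end Apply

end Groth.Agent.Lib.Helper6.EtLoc
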