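import Mathlib
import Groth.Agent.Lib.Helper6.EtLoc.Chart
import Groth.Agent.Lib.Helper6.EtLoc.BaseChange
import Groth.Agent.Lib.Helper6.EtLoc.UnramPoint
import Groth.Agent.Lib.Helper6.EtLoc.FlatDescPt

/-!
# Pointwise descent of unramified / étale along flat base change (scheme level)
-/

set_option autoImplicit false
set_option linter.unusedSectionVars false
universe u

open CategoryTheory Limits AlgebraicGeometry TensorProduct

namespace Groth.Agent.Lib.Helper6.EtLoc

/-- Affine chart data for two morphisms with a common target, around points with the same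
image. -/
theorem exists_chart_data₂ {X Y Y' : Scheme.{u}} (f : X ⟶ Y) (g : Y' ⟶ Y) (x : X) (y' : Y')
    (hxy : f x = g y') :
    ∃ (R B R' : Type u) (_ : CommRing R) (_ : CommRing B) (_ : CommRing R') (_ : Algebra R B)
      (_ : Algebra R R') (jS : Spec (.of R) ⟶ Y) (jX : Spec (.of B) ⟶ X)
      (jY' : Spec (.of R') ⟶ Y') (_ : IsOpenImmersion jS) (_ : IsOpenImmersion jX)
      (_ : IsOpenImmersion jY')
      (_ : Spec.map (CommRingCat.ofHom (algebraMap R B)) ≫ jS = jX ≫ f)
      (_ : Spec.map (CommRingCat.ofHom (algebraMap R R')) ≫ jS = jY' ≫ g)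
      (q₀ : PrimeSpectrum B) (p₀ : PrimeSpectrum R'), jX q₀ = x ∧ jY' p₀ = y' ∧
      (∀ (P : MorphismProperty Scheme.{u})
        (Q : ∀ {R S : Type u} [CommRing R] [CommRing S], (R →+* S) → Prop)
        [HasRingHomProperty P Q], P f → Q (algebraMap R B)) ∧
      (∀ (P : MorphismProperty Scheme.{u})
        (Q : ∀ {R S : Type u} [CommRing R] [CommRing S], (R →+* S) → Prop)
        [HasRingHomProperty P Q], P g → Q (algebraMap R R')) := by
  obtain ⟨_, ⟨U₀, hU₀m, rfl⟩, hsU₀, -⟩ := Y.isBasis_affineOpens.exists_subset_of_mem_open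
    (Set.mem_univ (f x)) isOpen_univ
  have hU₀ : IsAffineOpen U₀ := hU₀m
  have hx1 : x ∈ f ⁻¹ᵁ U₀ := hsU₀
  have hy1 : y' ∈ g ⁻¹ᵁ U₀ := by
    show g y' ∈ U₀
    rw [← hxy]; exact hsU₀
  obtain ⟨_, ⟨V', hV'm, rfl⟩, hxV', hUV : V' ≤ f ⁻¹ᵁ U₀⟩ :=
    X.isBasis_affineOpens.exists_subset_of_mem_open hx1 (f ⁻¹ᵁ U₀).2
  have hV' : IsAffineOpen V' := hV'm
  obtain ⟨_, ⟨V'', hV''m, rfl⟩, hyV'', hUV'' : V'' ≤ g ⁻¹ᵁ U₀⟩ :=
    Y'.isBasis_affineOpens.exists_subset_of_mem_open hy1 (g ⁻¹ᵁ U₀).2
  have hV'' : IsAffineOpen V'' := hV''m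
  algebraize [(f.appLE U₀ V' hUV).hom, (g.appLE U₀ V'' hUV'').hom]
  refine ⟨Γ(Y, U₀), Γ(X, V'), Γ(Y', V''), inferInstance, inferInstance, inferInstance,
    inferInstance, inferInstance, hU₀.fromSpec, hV'.fromSpec, hV''.fromSpec, inferInstance,
    inferInstance, inferInstance, ?_, ?_, hV'.primeIdealOf ⟨x, hxV'⟩,
    hV''.primeIdealOf ⟨y', hyV''⟩, ?_, ?_, ?_, ?_⟩
  · exact IsAffineOpen.SpecMap_appLE_fromSpec f hU₀ hV' hUV
  · exact IsAffineOpen.SpecMap_appLE_fromSpec g hU₀ hV'' hUV''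
  · exact hV'.fromSpec_primeIdealOf ⟨x, hxV'⟩
  · exact hV''.fromSpec_primeIdealOf ⟨y', hyV''⟩
  · intro P Q _ hP
    exact HasRingHomProperty.appLE P f hP ⟨U₀, hU₀⟩ ⟨V', hV'⟩ hUV
  · intro P Q _ hP
    exact HasRingHomProperty.appLE P g hP ⟨U₀, hU₀⟩ ⟨V'', hV''⟩ hUV''

/-- A property local on the source can be checked on open immersions covering the source. -/
theorem of_forall_exists_openImmersion (P : MorphismProperty Scheme.{u})
    [IsZariskiLocalAtSource P] {X Y : Scheme.{u}} (f : X ⟶ Y)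
    (H : ∀ x : X, ∃ (Z : Scheme.{u}) (j : Z ⟶ X), IsOpenImmersion j ∧ x ∈ Set.range j ∧
      P (j ≫ f)) : P f := by
  choose Z j hj hx hP using H
  have hj' : ∀ x, IsOpenImmersion (j x) := hj
  rw [IsZariskiLocalAtSource.iff_of_iSup_eq_top (P := P) (fun x => (j x).opensRange)]
  · intro x
    have h1 : (j x).isoOpensRange.hom ≫ (j x).opensRange.ι = j x :=
      Scheme.Hom.isoOpensRange_hom_ι (j x)
    have h2 : P ((j x).isoOpensRange.hom ≫ (j x).opensRange.ι ≫ f) := by
      rw [← Category.assoc, h1]; exact hP x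
    exact (MorphismProperty.cancel_left_of_respectsIso P _ _).mp h2
  · rw [eq_top_iff]
    rintro x -
    rw [TopologicalSpace.Opens.mem_iSup]
    exact ⟨x, hx x⟩


section Core

variable {X S : Scheme.{u}} (f : X ⟶ S) (R B R' : Type u) [CommRing R] [CommRing B] [CommRing R']
  [Algebra R B] [Algebra R R']
  (jS : Spec (.of R) ⟶ S) (jX : Spec (.of B) ⟶ X) [IsOpenImmersion jS] [IsOpenImmersion jX]
  (hcomm : Spec.map (CommRingCat.ofHom (algebraMap R B)) ≫ jS = jX ≫ f)

include hcomm in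
/-- Basic open charts of the base change around a point, for a structure map propositionally
equal to `baseMap`. -/
theorem exists_basic_chart (g₀ : Spec (.of R') ⟶ S) (hg₀ : baseMap R R' jS = g₀)
    (w : ↑(pullback f g₀)) (hw : pullback.fst f g₀ w ∈ Set.range jX) (U₀ : (pullback f g₀).Opens)
    (hwU : w ∈ U₀) :
    ∃ (h : R' ⊗[R] B) (z : PrimeSpectrum (R' ⊗[R] B))
      (ψ : Spec (.of (Localization.Away h)) ⟶ pullback f g₀), h ∉ z.asIdeal ∧
      IsOpenImmersion ψ ∧ Set.range ψ ⊆ (U₀ : Set ↑(pullback f g₀)) ∧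
      ψ ≫ pullback.snd f g₀ =
        Spec.map (CommRingCat.ofHom (algebraMap R' (Localization.Away h))) ∧
      pullback.fst f g₀ w = jX (⟨z.asIdeal.comap (Algebra.TensorProduct.includeRight :
          B →ₐ[R] R' ⊗[R] B).toRingHom, inferInstance⟩ : PrimeSpectrum B) := by
  subst hg₀
  obtain ⟨z, hz⟩ := exists_chart_eq f R B R' jS jX hcomm w hw
  have hzU : z ∈ (chart f R B R' jS jX hcomm) ⁻¹ᵁ U₀ := by
    show chart f R B R' jS jX hcomm z ∈ U₀
    rw [hz]; exact hwU
  obtain ⟨_, ⟨h, rfl⟩, hzh, hhU⟩ :=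
    PrimeSpectrum.isTopologicalBasis_basic_opens.exists_subset_of_mem_open hzU
      ((chart f R B R' jS jX hcomm) ⁻¹ᵁ U₀).2
  have hoi : IsOpenImmersion (pieceMap f R B R' jS jX hcomm (Localization.Away h)) :=
    isOpenImmersion_pieceMap f R B R' jS jX hcomm h (Localization.Away h)
  refine ⟨h, z, pieceMap f R B R' jS jX hcomm (Localization.Away h), hzh, hoi, ?_,
    pieceMap_snd f R B R' jS jX hcomm (Localization.Away h), ?_⟩
  · have h1 := opensRange_pieceMap f R B R' jS jX hcomm h (Localization.Away h)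
    have h2 : Set.range (pieceMap f R B R' jS jX hcomm (Localization.Away h)) =
        (piece f R B R' jS jX hcomm h : Set ↑(pullback f (baseMap R R' jS))) := by
      have := congrArg (fun O : (pullback f (baseMap R R' jS)).Opens =>
        (O : Set ↑(pullback f (baseMap R R' jS)))) h1
      simpa using this
    rw [h2]
    rintro w' hw'
    rw [SetLike.mem_coe, mem_piece] at hw'
    obtain ⟨z', hz', rfl⟩ := hw'
    exact hhU hz'
  · rw [← hz, fst_chart_apply]
    rfl

end Core


/-- Local affine model of an open piece of a base change around a point. -/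
theorem exists_local_model {X Y Y' : Scheme.{u}} (f : X ⟶ Y) (g : Y' ⟶ Y)
    (U : (pullback f g).Opens) (w : ↑(pullback f g)) (hw : w ∈ U) :
    ∃ (R B R' : Type u) (_ : CommRing R) (_ : CommRing B) (_ : CommRing R') (_ : Algebra R B)
      (_ : Algebra R R') (jS : Spec (.of R) ⟶ Y) (jX : Spec (.of B) ⟶ X)
      (jY' : Spec (.of R') ⟶ Y') (_ : IsOpenImmersion jS) (_ : IsOpenImmersion jX)
      (_ : IsOpenImmersion jY')
      (_ : Spec.map (CommRingCat.ofHom (algebraMap R B)) ≫ jS = jX ≫ f)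
      (h : R' ⊗[R] B) (z : PrimeSpectrum (R' ⊗[R] B))
      (ψ : Spec (.of (Localization.Away h)) ⟶ U.toScheme), h ∉ z.asIdeal ∧ IsOpenImmersion ψ ∧
      ψ ≫ U.ι ≫ pullback.snd f g =
        Spec.map (CommRingCat.ofHom (algebraMap R' (Localization.Away h))) ≫ jY' ∧
      pullback.fst f g w = jX (⟨z.asIdeal.comap (Algebra.TensorProduct.includeRight :
          B →ₐ[R] R' ⊗[R] B).toRingHom, inferInstance⟩ : PrimeSpectrum B) ∧
      (∀ (P : MorphismProperty Scheme.{u})
        (Q : ∀ {R S : Type u} [CommRing R] [CommRing S], (R →+* S) → Prop)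
        [HasRingHomProperty P Q], P f → Q (algebraMap R B)) ∧
      (∀ (P : MorphismProperty Scheme.{u})
        (Q : ∀ {R S : Type u} [CommRing R] [CommRing S], (R →+* S) → Prop)
        [HasRingHomProperty P Q], P g → Q (algebraMap R R')) := by
  have hxy : f (pullback.fst f g w) = g (pullback.snd f g w) := by
    rw [← Scheme.Hom.comp_apply, pullback.condition, Scheme.Hom.comp_apply]
  obtain ⟨R, B, R', _, _, _, _, _, jS, jX, jY', _, _, _, hcommX, hcommY, q₀, p₀, hq₀, hp₀,
    hPf, hPg⟩ := exists_chart_data₂ f g (pullback.fst f g w) (pullback.snd f g w) hxy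
  obtain ⟨w₂, hw₂, hw₂p⟩ := exists_bcMap_eq f g jY' w p₀ hp₀.symm
  have hw₂U : w₂ ∈ bcOpen f g jY' U := by
    rw [mem_bcOpen, hw₂]; exact hw
  have hw₂x : pullback.fst f (jY' ≫ g) w₂ ∈ Set.range jX := by
    rw [← fst_bcMap_apply, hw₂, ← hq₀]
    exact ⟨q₀, rfl⟩
  obtain ⟨h, z, ψ, hhz, hψ, hψU, hψsnd, hψfst⟩ :=
    exists_basic_chart f R B R' jS jX hcommX (jY' ≫ g) hcommY w₂ hw₂x (bcOpen f g jY' U) hw₂U
  have hβ : IsOpenImmersion (bcMap f g jY') :=
    MorphismProperty.of_isPullback (P := @IsOpenImmersion) (isPullback_bcMap f g jY').flip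
      inferInstance
  have hrange : Set.range (ψ ≫ bcMap f g jY') ⊆ Set.range U.ι := by
    rw [Scheme.Opens.range_ι]
    rintro _ ⟨t, rfl⟩
    change bcMap f g jY' (ψ t) ∈ U
    exact hψU ⟨t, rfl⟩
  refine ⟨R, B, R', inferInstance, inferInstance, inferInstance, inferInstance, inferInstance,
    jS, jX, jY', inferInstance, inferInstance, inferInstance, hcommX, h, z,
    IsOpenImmersion.lift U.ι (ψ ≫ bcMap f g jY') hrange, hhz, ?_, ?_, ?_, hPf, hPg⟩
  · have h1 : IsOpenImmersion (IsOpenImmersion.lift U.ι (ψ ≫ bcMap f g jY') hrange ≫ U.ι) := by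
      rw [IsOpenImmersion.lift_fac]; infer_instance
    exact IsOpenImmersion.of_comp _ U.ι
  · rw [← Category.assoc, IsOpenImmersion.lift_fac, Category.assoc, bcMap_snd,
      reassoc_of% hψsnd]
  · rw [← hw₂, fst_bcMap_apply, hψfst]


/-- Étaleness descends pointwise along flat base change. -/
theorem etale_of_flat_local {X Y Y' : Scheme.{u}} (f : X ⟶ Y) [LocallyOfFinitePresentation f]
    (g : Y' ⟶ Y) [Flat g] (U : (pullback f g).Opens) (hU : Etale (U.ι ≫ pullback.snd f g))
    (w : ↑(pullback f g)) (hw : w ∈ U) :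
    ∃ (Z : Scheme.{u}) (j : Z ⟶ X), IsOpenImmersion j ∧ pullback.fst f g w ∈ Set.range j ∧
      Etale (j ≫ f) := by
  obtain ⟨R, B, R', _, _, _, _, _, jS, jX, jY', _, _, _, hcommX, h, z, ψ, hhz, hψ, hψeq, hfst,
    hPf, hPg⟩ := exists_local_model f g U w hw
  have hfp : Algebra.FinitePresentation R B :=
    RingHom.finitePresentation_algebraMap.mp (hPf @LocallyOfFinitePresentation _ inferInstance)
  have hflat : Module.Flat R R' :=
    RingHom.flat_algebraMap_iff.mp (hPg @Flat _ inferInstance)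
  have het : Etale (Spec.map (CommRingCat.ofHom (algebraMap R' (Localization.Away h))) ≫ jY') := by
    rw [← hψeq]; infer_instance
  have het2 : Etale (Spec.map (CommRingCat.ofHom (algebraMap R' (Localization.Away h)))) :=
    Etale.of_comp _ jY'
  have hetA : Algebra.Etale R' (Localization.Away h) :=
    RingHom.etale_algebraMap.mp (HasRingHomProperty.Spec_iff.mp het2)
  have hzp : z.asIdeal.IsPrime := z.isPrime
  obtain ⟨b, hb, hbet⟩ := exists_away_etale z.asIdeal h hhz hetA
  obtain ⟨jX', _, hcomm', hq, hjq, -⟩ := away_chart f R B jS jX hcommX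
    (⟨z.asIdeal.comap (Algebra.TensorProduct.includeRight : B →ₐ[R] R' ⊗[R] B).toRingHom,
      inferInstance⟩ : PrimeSpectrum B) b hb
  refine ⟨_, jX', inferInstance, ?_, ?_⟩
  · rw [hfst, ← hjq]; exact ⟨_, rfl⟩
  · rw [← hcomm']
    have : Etale (Spec.map (CommRingCat.ofHom (algebraMap R (Localization.Away b)))) :=
      HasRingHomProperty.Spec_iff.mpr (RingHom.etale_algebraMap.mpr hbet)
    infer_instance

/-- Formal unramifiedness descends pointwise along flat base change. -/
theorem formallyUnramified_of_flat_local {X Y Y' : Scheme.{u}} (f : X ⟶ Y)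
    [LocallyOfFinitePresentation f]
    (g : Y' ⟶ Y) [Flat g] (U : (pullback f g).Opens)
    (hU : FormallyUnramified (U.ι ≫ pullback.snd f g))
    (w : ↑(pullback f g)) (hw : w ∈ U) :
    ∃ (Z : Scheme.{u}) (j : Z ⟶ X), IsOpenImmersion j ∧ pullback.fst f g w ∈ Set.range j ∧
      FormallyUnramified (j ≫ f) := by
  obtain ⟨R, B, R', _, _, _, _, _, jS, jX, jY', _, _, _, hcommX, h, z, ψ, hhz, hψ, hψeq, hfst,
    hPf, hPg⟩ := exists_local_model f g U w hw
  have hfp : Algebra.FinitePresentation R B :=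
    RingHom.finitePresentation_algebraMap.mp (hPf @LocallyOfFinitePresentation _ inferInstance)
  have hflat : Module.Flat R R' :=
    RingHom.flat_algebraMap_iff.mp (hPg @Flat _ inferInstance)
  have het : FormallyUnramified
      (Spec.map (CommRingCat.ofHom (algebraMap R' (Localization.Away h))) ≫ jY') := by
    rw [← hψeq]
    have h1 : FormallyUnramified ψ := inferInstance
    exact MorphismProperty.comp_mem _ _ _ h1 hU
  have het2 : FormallyUnramified
      (Spec.map (CommRingCat.ofHom (algebraMap R' (Localization.Away h)))) :=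
    FormallyUnramified.of_comp _ jY'
  have hetA : Algebra.FormallyUnramified R' (Localization.Away h) :=
    RingHom.formallyUnramified_algebraMap.mp (HasRingHomProperty.Spec_iff.mp het2)
  have hzp : z.asIdeal.IsPrime := z.isPrime
  obtain ⟨b, hb, hbet⟩ := exists_away_formallyUnramified z.asIdeal h hhz hetA
  obtain ⟨jX', _, hcomm', hq, hjq, -⟩ := away_chart f R B jS jX hcommX
    (⟨z.asIdeal.comap (Algebra.TensorProduct.includeRight : B →ₐ[R] R' ⊗[R] B).toRingHom,
      inferInstance⟩ : PrimeSpectrum B) b hb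
  refine ⟨_, jX', inferInstance, ?_, ?_⟩
  · rw [hfst, ← hjq]; exact ⟨_, rfl⟩
  · rw [← hcomm']
    have : FormallyUnramified
        (Spec.map (CommRingCat.ofHom (algebraMap R (Localization.Away b)))) :=
      HasRingHomProperty.Spec_iff.mpr (RingHom.formallyUnramified_algebraMap.mpr hbet)
    have h2 : FormallyUnramified jS := inferInstance
    exact MorphismProperty.comp_mem _ _ _ this h2

end Groth.Agent.Lib.Helper6.EtLoc
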