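import Mathlib
import Groth.Agent.Lib.Helper6.EtLoc.FlatDescSch
import Groth.Agent.Lib.Helper6.EtLoc.BCLocus

/-!
# Unramified / étale loci commute with arbitrary base change (schemes)
-/

set_option autoImplicit false
set_option linter.unusedSectionVars false
universe u

open CategoryTheory Limits AlgebraicGeometry TensorProduct

namespace Groth.Agent.Lib.Helper6.EtLoc

/-- Formal unramifiedness near a point of the base change implies formal unramifiedness near
its image. -/
theorem formallyUnramified_of_local {X Y Y' : Scheme.{u}} (f : X ⟶ Y)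
    [LocallyOfFiniteType f] (g : Y' ⟶ Y) (U : (pullback f g).Opens)
    (hU : FormallyUnramified (U.ι ≫ pullback.snd f g))
    (w : ↑(pullback f g)) (hw : w ∈ U) :
    ∃ (Z : Scheme.{u}) (j : Z ⟶ X), IsOpenImmersion j ∧ pullback.fst f g w ∈ Set.range j ∧
      FormallyUnramified (j ≫ f) := by
  obtain ⟨R, B, R', _, _, _, _, _, jS, jX, jY', _, _, _, hcommX, h, z, ψ, hhz, hψ, hψeq, hfst,
    hPf, hPg⟩ := exists_local_model f g U w hw
  have hft : Algebra.FiniteType R B :=
    RingHom.finiteType_algebraMap.mp (hPf @LocallyOfFiniteType _ inferInstance)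
  have het : FormallyUnramified
      (Spec.map (CommRingCat.ofHom (algebraMap R' (Localization.Away h))) ≫ jY') := by
    rw [← hψeq]
    have h1 : FormallyUnramified ψ := inferInstance
    exact MorphismProperty.comp_mem _ _ _ h1 hU
  have het2 : FormallyUnramified
      (Spec.map (CommRingCat.ofHom (algebraMap R' (Localization.Away h)))) :=
    FormallyUnramified.of_comp _ jY'
  have hetA : Algebra.FormallyUnramified R' (Localization.Away h) :=
    RingHom.formallyUnramified_algebraMap.mp (HasRingHomProperty.Spec_iff.mp het2)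
  have hzp : z.asIdeal.IsPrime := z.isPrime
  obtain ⟨b, hb, hbet⟩ := exists_away_formallyUnramified' z.asIdeal h hhz hetA
  obtain ⟨jX', _, hcomm', hq, hjq, -⟩ := away_chart f R B jS jX hcommX
    (⟨z.asIdeal.comap (Algebra.TensorProduct.includeRight : B →ₐ[R] R' ⊗[R] B).toRingHom,
      inferInstance⟩ : PrimeSpectrum B) b hb
  refine ⟨_, jX', inferInstance, ?_, ?_⟩
  · rw [hfst, ← hjq]; exact ⟨_, rfl⟩
  · rw [← hcomm']
    have : FormallyUnramified
        (Spec.map (CommRingCat.ofHom (algebraMap R (Localization.Away b)))) :=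
      HasRingHomProperty.Spec_iff.mpr (RingHom.formallyUnramified_algebraMap.mpr hbet)
    have h2 : FormallyUnramified jS := inferInstance
    exact MorphismProperty.comp_mem _ _ _ this h2

/-- For flat `f` locally of finite presentation: formal unramifiedness near a point of the base
change implies étaleness near its image. -/
theorem etale_of_local {X Y Y' : Scheme.{u}} (f : X ⟶ Y)
    [LocallyOfFinitePresentation f] [Flat f] (g : Y' ⟶ Y) (U : (pullback f g).Opens)
    (hU : FormallyUnramified (U.ι ≫ pullback.snd f g))
    (w : ↑(pullback f g)) (hw : w ∈ U) :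
    ∃ (Z : Scheme.{u}) (j : Z ⟶ X), IsOpenImmersion j ∧ pullback.fst f g w ∈ Set.range j ∧
      Etale (j ≫ f) := by
  obtain ⟨R, B, R', _, _, _, _, _, jS, jX, jY', _, _, _, hcommX, h, z, ψ, hhz, hψ, hψeq, hfst,
    hPf, hPg⟩ := exists_local_model f g U w hw
  have hfp : Algebra.FinitePresentation R B :=
    RingHom.finitePresentation_algebraMap.mp (hPf @LocallyOfFinitePresentation _ inferInstance)
  have hflat : Module.Flat R B :=
    RingHom.flat_algebraMap_iff.mp (hPf @Flat _ inferInstance)
  have het : FormallyUnramified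
      (Spec.map (CommRingCat.ofHom (algebraMap R' (Localization.Away h))) ≫ jY') := by
    rw [← hψeq]
    have h1 : FormallyUnramified ψ := inferInstance
    exact MorphismProperty.comp_mem _ _ _ h1 hU
  have het2 : FormallyUnramified
      (Spec.map (CommRingCat.ofHom (algebraMap R' (Localization.Away h)))) :=
    FormallyUnramified.of_comp _ jY'
  have hetA : Algebra.FormallyUnramified R' (Localization.Away h) :=
    RingHom.formallyUnramified_algebraMap.mp (HasRingHomProperty.Spec_iff.mp het2)
  have hzp : z.asIdeal.IsPrime := z.isPrime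
  obtain ⟨b, hb, hbet⟩ := exists_away_etale' z.asIdeal h hhz hetA
  obtain ⟨jX', _, hcomm', hq, hjq, -⟩ := away_chart f R B jS jX hcommX
    (⟨z.asIdeal.comap (Algebra.TensorProduct.includeRight : B →ₐ[R] R' ⊗[R] B).toRingHom,
      inferInstance⟩ : PrimeSpectrum B) b hb
  refine ⟨_, jX', inferInstance, ?_, ?_⟩
  · rw [hfst, ← hjq]; exact ⟨_, rfl⟩
  · rw [← hcomm']
    have : Etale (Spec.map (CommRingCat.ofHom (algebraMap R (Localization.Away b)))) :=
      HasRingHomProperty.Spec_iff.mpr (RingHom.etale_algebraMap.mpr hbet)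
    infer_instance

/-- The restriction of the second projection to the preimage of an open is a base change. -/
theorem isPullback_fst_preimage {X Y Y' : Scheme.{u}} (f : X ⟶ Y) (g : Y' ⟶ Y) (W : X.Opens) :
    IsPullback ((pullback.fst f g) ∣_ W) (((pullback.fst f g) ⁻¹ᵁ W).ι ≫ pullback.snd f g)
      (W.ι ≫ f) g :=
  (isPullback_morphismRestrict (pullback.fst f g) W).paste_vert (IsPullback.of_hasPullback f g)

end Groth.Agent.Lib.Helper6.EtLoc
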