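import Mathlib
import Groth.Prelude.Def_ega3
import Groth.Agent.Lib.Helper6.EtLoc.BCLocusSch

/-!
# Unramifiedness and the map of fibres
-/

set_option autoImplicit false
set_option linter.unusedSectionVars false
universe u

open CategoryTheory Limits AlgebraicGeometry TensorProduct

namespace Groth.Agent.Lib.Helper6.EtLoc

/-- The map of fibres is a base change of `f`. -/
theorem isPullback_fiberMapOver {X Y S : Scheme.{u}} (g : Y ⟶ S) (h : X ⟶ S) (f : X ⟶ Y)
    (w : f ≫ g = h) (s : S) :
    IsPullback (h.fiberι s) (CohIII.fiberMapOver f h g w s) f (g.fiberι s) := by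
  refine IsPullback.of_bot (v₂₁ := g.fiberToSpecResidueField s) ?_ ?_
    (IsPullback.of_hasPullback g (S.fromSpecResidueField s))
  · have h1 : CohIII.fiberMapOver f h g w s ≫ g.fiberToSpecResidueField s =
        h.fiberToSpecResidueField s :=
      (pullback.lift_snd _ _ _).trans (Category.comp_id _)
    rw [h1, w]
    exact IsPullback.of_hasPullback h (S.fromSpecResidueField s)
  · exact (pullback.lift_fst _ _ _).symm

/-- Variant of `formallyUnramified_of_local` for an open immersion into the pullback and an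
arbitrary pullback square. -/
theorem formallyUnramified_of_local_isPullback {X Y X' Y' : Scheme.{u}} (f : X ⟶ Y)
    [LocallyOfFiniteType f] (g : Y' ⟶ Y) (f' : X' ⟶ Y') (g' : X' ⟶ X)
    (sq : IsPullback g' f' f g) (V : X'.Opens)
    (hV : FormallyUnramified (V.ι ≫ f')) (x' : X') (hx' : x' ∈ V) :
    ∃ U : X.Opens, g' x' ∈ U ∧ FormallyUnramified (U.ι ≫ f) := by
  have hri : MorphismProperty.RespectsIso @FormallyUnramified.{u} :=
    MorphismProperty.IsStableUnderBaseChange.respectsIso
  let e := sq.isoPullback
  have he1 : e.hom ≫ pullback.fst f g = g' := sq.isoPullback_hom_fst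
  have he2 : e.hom ≫ pullback.snd f g = f' := sq.isoPullback_hom_snd
  let j : V.toScheme ⟶ pullback f g := V.ι ≫ e.hom
  have hj : IsOpenImmersion j := inferInstance
  have h1 : j.isoOpensRange.hom ≫ j.opensRange.ι = j := Scheme.Hom.isoOpensRange_hom_ι j
  have h2 : FormallyUnramified (j.opensRange.ι ≫ pullback.snd f g) := by
    have h3 : FormallyUnramified (j.isoOpensRange.hom ≫ j.opensRange.ι ≫ pullback.snd f g) := by
      rw [← Category.assoc, h1]
      show FormallyUnramified ((V.ι ≫ e.hom) ≫ pullback.snd f g)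
      rw [Category.assoc, he2]
      exact hV
    exact (MorphismProperty.cancel_left_of_respectsIso @FormallyUnramified _ _).mp h3
  have hw : e.hom x' ∈ j.opensRange := ⟨⟨x', hx'⟩, rfl⟩
  obtain ⟨Z, j', hj', hjr, hjs⟩ := formallyUnramified_of_local f g _ h2 (e.hom x') hw
  refine ⟨j'.opensRange, ?_, ?_⟩
  · have : pullback.fst f g (e.hom x') = g' x' := by
      rw [← Scheme.Hom.comp_apply, he1]
    rw [← this]
    exact hjr
  · have h4 : j'.isoOpensRange.hom ≫ j'.opensRange.ι = j' := Scheme.Hom.isoOpensRange_hom_ι j'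
    have h5 : FormallyUnramified (j'.isoOpensRange.hom ≫ j'.opensRange.ι ≫ f) := by
      rw [← Category.assoc, h4]; exact hjs
    exact (MorphismProperty.cancel_left_of_respectsIso @FormallyUnramified _ _).mp h5

/-- Base change of unramifiedness on an open. -/
theorem formallyUnramified_preimage_of_isPullback {X Y X' Y' : Scheme.{u}} (f : X ⟶ Y)
    (g : Y' ⟶ Y) (f' : X' ⟶ Y') (g' : X' ⟶ X)
    (sq : IsPullback g' f' f g) (U : X.Opens) (hU : FormallyUnramified (U.ι ≫ f)) :
    FormallyUnramified ((g' ⁻¹ᵁ U).ι ≫ f') :=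
  MorphismProperty.of_isPullback (P := @FormallyUnramified)
    ((isPullback_morphismRestrict g' U).paste_vert sq) hU

end Groth.Agent.Lib.Helper6.EtLoc
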