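import Mathlib
import Groth.Agent.Lib.Helper6.EtLoc.FlatDescPt

/-!
# Pointwise descent of smoothness along flat base change (ring level)
-/

set_option autoImplicit false
set_option linter.unusedSectionVars false

open TensorProduct

namespace Groth.Agent.Lib.Helper6.EtLoc

section FreeLocus

variable {B B' : Type*} [CommRing B] [CommRing B'] [Algebra B B'] [Module.Flat B B']
  (M : Type*) [AddCommGroup M] [Module B M] [Module.Finite B M]

/-- The free locus of a finite module descends along flat base change. -/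
theorem mem_freeLocus_of_flat_baseChange (p : PrimeSpectrum B')
    (hp : p ∈ Module.freeLocus B' (B' ⊗[B] M)) :
    PrimeSpectrum.comap (algebraMap B B') p ∈ Module.freeLocus B M := by
  let Rₚ := Localization.AtPrime (PrimeSpectrum.comap (algebraMap B B') p).asIdeal
  let Aₚ := Localization.AtPrime p.asIdeal
  rw [Module.mem_freeLocus_iff_tensor _ Aₚ] at hp
  rw [Module.mem_freeLocus_iff_tensor _ Rₚ]
  let algebra : Algebra Rₚ Aₚ := (Localization.localRingHom
    (PrimeSpectrum.comap (algebraMap B B') p).asIdeal p.asIdeal (algebraMap B B') rfl).toAlgebra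
  have : IsScalarTower B Rₚ Aₚ := IsScalarTower.of_algebraMap_eq fun x => by
    have h1 := Localization.localRingHom_to_map
      (PrimeSpectrum.comap (algebraMap B B') p).asIdeal p.asIdeal (algebraMap B B') rfl x
    exact (IsScalarTower.algebraMap_apply B B' Aₚ x).trans h1.symm
  let e := AlgebraTensorModule.cancelBaseChange B Rₚ Aₚ Aₚ M ≪≫ₗ
    (AlgebraTensorModule.cancelBaseChange B B' Aₚ Aₚ M).symm
  have hfree : Module.Free Aₚ (Aₚ ⊗[Rₚ] (Rₚ ⊗[B] M)) := .of_equiv e.symm
  have hflat : Module.Flat Rₚ Aₚ :=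
    RingHom.Flat.localRingHom (f := algebraMap B B')
      (RingHom.flat_algebraMap_iff.mpr inferInstance) p.asIdeal _ rfl
  have hloc : IsLocalHom (algebraMap Rₚ Aₚ) :=
    Localization.isLocalHom_localRingHom _ _ _ rfl
  have hff : Module.FaithfullyFlat Rₚ Aₚ := Module.FaithfullyFlat.of_flat_of_isLocalHom
  have hfl : Module.Flat Aₚ (Aₚ ⊗[Rₚ] (Rₚ ⊗[B] M)) := inferInstance
  have : Module.Flat Rₚ (Rₚ ⊗[B] M) := Module.Flat.of_flat_tensorProduct Rₚ _ Aₚ
  exact Module.free_of_flat_of_isLocalRing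

end FreeLocus

section Apply

universe u

variable {R R' B : Type u} [CommRing R] [CommRing R'] [CommRing B] [Algebra R R'] [Algebra R B]
  [Module.Flat R R']

attribute [local instance] Algebra.TensorProduct.rightAlgebra

/-- Pointwise descent of smoothness along flat base change. -/
theorem smoothLocus_of_flat_baseChange [Algebra.FinitePresentation R B]
    (q' : Ideal (R' ⊗[R] B)) [hq' : q'.IsPrime]
    (h : (⟨q', hq'⟩ : PrimeSpectrum (R' ⊗[R] B)) ∈ Algebra.smoothLocus R' (R' ⊗[R] B)) :
    (⟨q'.comap (Algebra.TensorProduct.includeRight : B →ₐ[R] R' ⊗[R] B).toRingHom,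
      inferInstance⟩ : PrimeSpectrum B) ∈ Algebra.smoothLocus R B := by
  rw [Algebra.smoothLocus_eq_compl_support_inter] at h ⊢
  obtain ⟨h2, h1⟩ := h
  rw [Set.mem_compl_iff] at h2
  refine ⟨?_, ?_⟩
  · rw [Set.mem_compl_iff]
    refine notMem_support_of_flat_baseChange (R := R) (R' := R') (B := B)
      (N := Algebra.H1Cotangent R B) (N' := Algebra.H1Cotangent R' (R' ⊗[R] B))
      (Algebra.H1Cotangent.map R R' B (R' ⊗[R] B)).toAddMonoidHom ?_
      (Algebra.tensorH1CotangentOfFlat R B R').toLinearMap.toAddMonoidHom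
      ?_ ?_ q' h2
    · intro b n
      show Algebra.H1Cotangent.map R R' B (R' ⊗[R] B) (b • n) = _
      rw [LinearMap.map_smul, ← algebraMap_smul (R' ⊗[R] B) b]
      rfl
    · intro t n
      exact Algebra.tensorH1CotangentOfFlat_tmul R B R' t n
    · exact (Algebra.tensorH1CotangentOfFlat R B R').injective
  · have hflat : Module.Flat B (R' ⊗[R] B) := by
      have : Module.Flat B (B ⊗[R] R') := inferInstance
      let e0 : R' ⊗[R] B ≃ₐ[B] B ⊗[R] R' :=
        { __ := Algebra.TensorProduct.comm R R' B, commutes' _ := rfl }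
      exact Module.Flat.of_linearEquiv e0.toLinearEquiv
    have e := KaehlerDifferential.tensorKaehlerEquiv R R' B (R' ⊗[R] B)
    rw [← Module.freeLocus_congr e] at h1
    exact mem_freeLocus_of_flat_baseChange (B := B) (B' := R' ⊗[R] B) Ω[B⁄R] ⟨q', hq'⟩ h1

theorem exists_away_smooth [Algebra.FinitePresentation R B] (q' : Ideal (R' ⊗[R] B))
    [hq' : q'.IsPrime] (h : R' ⊗[R] B) (hh : h ∉ q')
    (hsm : Algebra.Smooth R' (Localization.Away h)) :
    ∃ b : B, b ∉ q'.comap (Algebra.TensorProduct.includeRight : B →ₐ[R] R' ⊗[R] B).toRingHom ∧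
      Algebra.Smooth R (Localization.Away b) := by
  have h1 : (⟨q', hq'⟩ : PrimeSpectrum (R' ⊗[R] B)) ∈ Algebra.smoothLocus R' (R' ⊗[R] B) :=
    (Algebra.basicOpen_subset_smoothLocus_iff_smooth.mpr hsm) hh
  have h2 := smoothLocus_of_flat_baseChange q' h1
  have h3 : Algebra.IsSmoothAt R
      (q'.comap (Algebra.TensorProduct.includeRight : B →ₐ[R] R' ⊗[R] B).toRingHom) := h2
  obtain ⟨b, hb, hb'⟩ := Algebra.IsSmoothAt.exists_notMem_smooth R
    (q'.comap (Algebra.TensorProduct.includeRight : B →ₐ[R] R' ⊗[R] B).toRingHom)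
  exact ⟨b, hb, hb'⟩

end Apply

end Groth.Agent.Lib.Helper6.EtLoc
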