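import Mathlib
import Groth.Agent.Lib.Helper6.EtLoc.BCLocusSch
import Groth.Agent.Lib.Helper6.EtLoc.SmoothFiberRing

/-!
# Smooth locus, base change and fibres
-/

set_option autoImplicit false
set_option linter.unusedSectionVars false
universe u

open CategoryTheory Limits AlgebraicGeometry TensorProduct

namespace Groth.Agent.Lib.Helper6.EtLoc

/-- Restricting to an open contained in the smooth locus gives a smooth morphism. -/
theorem smooth_of_forall_mem_smoothLocus {V X S : Scheme.{u}} (j : V ⟶ X) [IsOpenImmersion j]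
    (f : X ⟶ S) [LocallyOfFinitePresentation f] (H : ∀ v : V, j v ∈ f.smoothLocus) :
    Smooth (j ≫ f) := by
  rw [← Scheme.Hom.smoothLocus_eq_top_iff, ← Scheme.Hom.preimage_smoothLocus_eq]
  ext v
  simpa using H v

/-- The smooth locus is compatible with arbitrary base change (one direction). -/
theorem mem_smoothLocus_snd {X Y Z : Scheme.{u}} (f : X ⟶ Z) (g : Y ⟶ Z)
    [LocallyOfFinitePresentation f] [LocallyOfFinitePresentation (pullback.snd f g)]
    (w : ↑(pullback f g)) (hw : pullback.fst f g w ∈ f.smoothLocus) :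
    w ∈ (pullback.snd f g).smoothLocus := by
  have h1 : Smooth (f.smoothLocus.ι ≫ f) :=
    smooth_of_forall_mem_smoothLocus _ f fun v => v.2
  have sq := isPullback_fst_preimage f g f.smoothLocus
  have h2 : Smooth (((pullback.fst f g) ⁻¹ᵁ f.smoothLocus).ι ≫ pullback.snd f g) :=
    MorphismProperty.of_isPullback (P := @Smooth) sq h1
  have h3 := Scheme.Hom.preimage_smoothLocus_eq
    ((pullback.fst f g) ⁻¹ᵁ f.smoothLocus).ι (pullback.snd f g)
  rw [Scheme.Hom.smoothLocus_eq_top_iff.mpr h2] at h3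
  have h4 : (⟨w, hw⟩ : ↥((pullback.fst f g) ⁻¹ᵁ f.smoothLocus)) ∈
      ((pullback.fst f g) ⁻¹ᵁ f.smoothLocus).ι ⁻¹ᵁ (pullback.snd f g).smoothLocus := by
    rw [h3]; trivial
  exact h4

theorem flat_stalkMap_comp_iff {V X S : Scheme.{u}} (j : V ⟶ X) [IsOpenImmersion j]
    (f : X ⟶ S) (v : V) :
    (f.stalkMap (j v)).hom.Flat ↔ ((j ≫ f).stalkMap v).hom.Flat := by
  refine (RingHom.Flat.respectsIso.cancel_right_isIso _ (j.stalkMap v)).symm.trans ?_
  rw [← CommRingCat.hom_comp, ← Scheme.Hom.stalkMap_comp]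
  rfl

theorem flat_stalkMap_of_comp {V X S : Scheme.{u}} (j : V ⟶ X) [IsOpenImmersion j]
    (f : X ⟶ S) (v : V) (x : X) (hx : j v = x) (h : ((j ≫ f).stalkMap v).hom.Flat) :
    (f.stalkMap x).hom.Flat := by
  subst hx
  exact (flat_stalkMap_comp_iff j f v).mpr h

/-- Smoothness of the stalk map implies flatness of the stalk map. -/
theorem flat_stalkMap_of_mem_smoothLocus {X S : Scheme.{u}} (f : X ⟶ S)
    [LocallyOfFinitePresentation f] (x : X) (hx : x ∈ f.smoothLocus) :
    (f.stalkMap x).hom.Flat := by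
  have h1 : Smooth (f.smoothLocus.ι ≫ f) :=
    smooth_of_forall_mem_smoothLocus _ f fun v => v.2
  have h2 := Flat.stalkMap (f.smoothLocus.ι ≫ f) ⟨x, hx⟩
  exact flat_stalkMap_of_comp f.smoothLocus.ι f ⟨x, hx⟩ x rfl h2

/-- If the fibre of `f` over `i u` is smooth at all points over the chart `j`, the fibre of the
chart morphism `g` over `u` is smooth. -/
theorem smooth_fiberToSpec_of_chart {X S V U : Scheme.{u}} (f : X ⟶ S)
    (j : V ⟶ X) (i : U ⟶ S) [IsOpenImmersion j] [IsOpenImmersion i] (g : V ⟶ U)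
    (hg : g ≫ i = j ≫ f) (u : U) (s : S) (hs : i u = s)
    [LocallyOfFinitePresentation (f.fiberToSpecResidueField s)]
    (H : ∀ z : ↑(f.fiber s), f.fiberι s z ∈ Set.range j →
      z ∈ (f.fiberToSpecResidueField s).smoothLocus) :
    Smooth (g.fiberToSpecResidueField u) := by
  subst hs
  let ψ : g.fiber u ⟶ f.fiber (i u) :=
    pullback.map g (U.fromSpecResidueField u) f (S.fromSpecResidueField (i u)) j
      (Spec.map (i.residueFieldMap u)) i hg
      (by rw [Scheme.Hom.SpecMap_residueFieldMap_fromSpecResidueField])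
  have hiso : IsIso (Spec.map (i.residueFieldMap u)) := inferInstance
  have hoi : IsOpenImmersion (Spec.map (i.residueFieldMap u)) := inferInstance
  have hmono : Mono i := inferInstance
  have hψ : IsOpenImmersion ψ := by
    exact Scheme.pullback_map_isOpenImmersion _ _ _ _ _ _ _ _ _
  have hsnd : ψ ≫ f.fiberToSpecResidueField (i u) =
      g.fiberToSpecResidueField u ≫ Spec.map (i.residueFieldMap u) := by
    exact pullback.lift_snd _ _ _
  have hfst : ψ ≫ f.fiberι (i u) = g.fiberι u ≫ j := by
    exact pullback.lift_fst _ _ _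
  have h1 : Smooth (ψ ≫ f.fiberToSpecResidueField (i u)) := by
    apply smooth_of_forall_mem_smoothLocus
    intro t
    apply H
    refine ⟨g.fiberι u t, ?_⟩
    rw [← Scheme.Hom.comp_apply, ← hfst, Scheme.Hom.comp_apply]
  rw [hsnd] at h1
  have : MorphismProperty.RespectsIso @Smooth :=
    MorphismProperty.IsStableUnderBaseChange.respectsIso
  exact (MorphismProperty.cancel_right_of_respectsIso (P := @Smooth) _ _).mp h1

end Groth.Agent.Lib.Helper6.EtLoc
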