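import Mathlib
import Groth.Agent.Lib.Helper6.EtLoc.FlatDescSch
import Groth.Agent.Lib.Helper6.EtLoc.SmoothDescPt
import Groth.Agent.Lib.Helper6.EtLoc.SmoothFiber

/-!
# Smooth locus and base change (scheme level)
-/

set_option autoImplicit false
set_option linter.unusedSectionVars false
universe u

open CategoryTheory Limits AlgebraicGeometry TensorProduct

namespace Groth.Agent.Lib.Helper6.EtLoc

/-- Smoothness descends pointwise along flat base change. -/
theorem smooth_of_flat_local {X Y Y' : Scheme.{u}} (f : X ⟶ Y) [LocallyOfFinitePresentation f]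
    (g : Y' ⟶ Y) [Flat g] (U : (pullback f g).Opens) (hU : Smooth (U.ι ≫ pullback.snd f g))
    (w : ↑(pullback f g)) (hw : w ∈ U) :
    ∃ (Z : Scheme.{u}) (j : Z ⟶ X), IsOpenImmersion j ∧ pullback.fst f g w ∈ Set.range j ∧
      Smooth (j ≫ f) := by
  obtain ⟨R, B, R', _, _, _, _, _, jS, jX, jY', _, _, _, hcommX, h, z, ψ, hhz, hψ, hψeq, hfst,
    hPf, hPg⟩ := exists_local_model f g U w hw
  have hfp : Algebra.FinitePresentation R B :=
    RingHom.finitePresentation_algebraMap.mp (hPf @LocallyOfFinitePresentation _ inferInstance)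
  have hflat : Module.Flat R R' :=
    RingHom.flat_algebraMap_iff.mp (hPg @Flat _ inferInstance)
  have het : Smooth (Spec.map (CommRingCat.ofHom (algebraMap R' (Localization.Away h))) ≫ jY') := by
    rw [← hψeq]; infer_instance
  have hpc : MorphismProperty.HasOfPostcompProperty @Smooth.{u} @IsOpenImmersion.{u} :=
    AlgebraicGeometry.instHasOfPostcompPropertySchemeIsOpenImmersionOfIsStableUnderBaseChange
      @Smooth.{u}
  have het2 : Smooth (Spec.map (CommRingCat.ofHom (algebraMap R' (Localization.Away h)))) :=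
    MorphismProperty.of_postcomp (W := @Smooth) (W' := @IsOpenImmersion) _ jY' inferInstance het
  have hetA : Algebra.Smooth R' (Localization.Away h) :=
    RingHom.smooth_algebraMap.mp (HasRingHomProperty.Spec_iff.mp het2)
  have hzp : z.asIdeal.IsPrime := z.isPrime
  obtain ⟨b, hb, hbet⟩ := exists_away_smooth z.asIdeal h hhz hetA
  obtain ⟨jX', _, hcomm', hq, hjq, -⟩ := away_chart f R B jS jX hcommX
    (⟨z.asIdeal.comap (Algebra.TensorProduct.includeRight : B →ₐ[R] R' ⊗[R] B).toRingHom,
      inferInstance⟩ : PrimeSpectrum B) b hb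
  refine ⟨_, jX', inferInstance, ?_, ?_⟩
  · rw [hfst, ← hjq]; exact ⟨_, rfl⟩
  · rw [← hcomm']
    have : Smooth (Spec.map (CommRingCat.ofHom (algebraMap R (Localization.Away b)))) :=
      HasRingHomProperty.Spec_iff.mpr (RingHom.smooth_algebraMap.mpr hbet)
    infer_instance

theorem mem_smoothLocus_congr {X S : Scheme.{u}} {f f' : X ⟶ S} (hff : f = f')
    [LocallyOfFinitePresentation f] [LocallyOfFinitePresentation f'] (x : X) :
    x ∈ f.smoothLocus ↔ x ∈ f'.smoothLocus := by
  subst hff; rfl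

/-- If `j ≫ f` is smooth for an open immersion `j`, the range of `j` lies in the smooth locus. -/
theorem mem_smoothLocus_of_smooth_comp {Z X S : Scheme.{u}} (j : Z ⟶ X) [IsOpenImmersion j]
    (f : X ⟶ S) [LocallyOfFinitePresentation f] (hs : Smooth (j ≫ f)) (x : X)
    (hx : x ∈ Set.range j) : x ∈ f.smoothLocus := by
  obtain ⟨z, rfl⟩ := hx
  have h1 := Scheme.Hom.preimage_smoothLocus_eq j f
  rw [Scheme.Hom.smoothLocus_eq_top_iff.mpr hs] at h1
  have h2 : z ∈ j ⁻¹ᵁ f.smoothLocus := by rw [h1]; trivial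
  exact h2

/-- Smooth locus and base change: the easy inclusion, for arbitrary pullback squares. -/
theorem mem_smoothLocus_of_isPullback {X S X' S' : Scheme.{u}} (f : X ⟶ S) (g : S' ⟶ S)
    (f' : X' ⟶ S') (g' : X' ⟶ X) (h : IsPullback g' f' f g)
    [LocallyOfFinitePresentation f] [LocallyOfFinitePresentation f']
    (x' : X') (hx' : g' x' ∈ f.smoothLocus) : x' ∈ f'.smoothLocus := by
  have h1 : Smooth (f.smoothLocus.ι ≫ f) :=
    smooth_of_forall_mem_smoothLocus _ f fun v => v.2
  have sq := (isPullback_morphismRestrict g' f.smoothLocus).paste_vert h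
  have h2 : Smooth ((g' ⁻¹ᵁ f.smoothLocus).ι ≫ f') :=
    MorphismProperty.of_isPullback (P := @Smooth) sq h1
  exact mem_smoothLocus_of_smooth_comp (g' ⁻¹ᵁ f.smoothLocus).ι f' h2 x'
    ⟨⟨x', hx'⟩, rfl⟩

/-- Smooth locus and flat base change: the hard inclusion. -/
theorem mem_smoothLocus_of_flat {X S X' S' : Scheme.{u}} (f : X ⟶ S) (g : S' ⟶ S)
    (f' : X' ⟶ S') (g' : X' ⟶ X) (h : IsPullback g' f' f g)
    [LocallyOfFinitePresentation f] [LocallyOfFinitePresentation f'] [Flat g]
    (x' : X') (hx' : x' ∈ f'.smoothLocus) : g' x' ∈ f.smoothLocus := by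
  let e := h.isoPullback
  have he1 : e.hom ≫ pullback.fst f g = g' := h.isoPullback_hom_fst
  have he2 : e.hom ≫ pullback.snd f g = f' := h.isoPullback_hom_snd
  have hw : e.hom x' ∈ (pullback.snd f g).smoothLocus := by
    have h1 := Scheme.Hom.preimage_smoothLocus_eq e.hom (pullback.snd f g)
    have h2 : x' ∈ (e.hom ≫ pullback.snd f g).smoothLocus :=
      (mem_smoothLocus_congr he2 x').mpr hx'
    rw [← h1] at h2
    exact h2
  have hU : Smooth ((pullback.snd f g).smoothLocus.ι ≫ pullback.snd f g) :=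
    smooth_of_forall_mem_smoothLocus _ _ fun v => v.2
  obtain ⟨Z, j, hj, hjr, hjs⟩ := smooth_of_flat_local f g _ hU (e.hom x') hw
  have h3 := mem_smoothLocus_of_smooth_comp j f hjs _ hjr
  rwa [← Scheme.Hom.comp_apply, he1] at h3

end Groth.Agent.Lib.Helper6.EtLoc
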