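import Mathlib
import Groth.Agent.Lib.Helper6.EtLoc.SmoothDescSch
import Groth.Agent.S2156

/-!
# Smooth locus and base change when the morphism itself is flat
-/

set_option autoImplicit false
set_option linter.unusedSectionVars false
universe u

open CategoryTheory Limits AlgebraicGeometry TensorProduct

namespace Groth.Agent.Lib.Helper6.EtLoc

theorem mem_smoothLocus_iff_fiber_aux {X S : Scheme.{u}} (f : X ⟶ S)
    [LocallyOfFinitePresentation f] (x : X) (s : S) (hs : f x = s) (z : ↑(f.fiber s))
    (hz : f.fiberι s z = x) [LocallyOfFinitePresentation (f.fiberToSpecResidueField s)] :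
    x ∈ f.smoothLocus ↔
      (f.stalkMap x).hom.Flat ∧ z ∈ (f.fiberToSpecResidueField s).smoothLocus := by
  subst hs
  have : z = f.asFiber x :=
    (f.fiberι _).isEmbedding.injective (by rw [hz, f.fiberι_asFiber])
  subst this
  exact Groth.Agent.S2156.result f x

theorem exists_fiber_square {X S X' S' : Scheme.{u}} {f : X ⟶ S} {g : S' ⟶ S}
    {f' : X' ⟶ S'} {g' : X' ⟶ X} (h : IsPullback g' f' f g) (s' : S') :
    ∃ T : f'.fiber s' ⟶ f.fiber (g s'),
      IsPullback T (f'.fiberToSpecResidueField s') (f.fiberToSpecResidueField (g s'))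
        (Spec.map (g.residueFieldMap s')) ∧ T ≫ f.fiberι (g s') = f'.fiberι s' ≫ g' :=
  ⟨_, isPullback_fiberToSpecResidueField_of_isPullback h s', pullback.lift_fst _ _ _⟩

/-- Smooth locus and base change, when `f` is flat. -/
theorem mem_smoothLocus_of_flat_left {X S X' S' : Scheme.{u}} (f : X ⟶ S) (g : S' ⟶ S)
    (f' : X' ⟶ S') (g' : X' ⟶ X) (h : IsPullback g' f' f g)
    [LocallyOfFinitePresentation f] [LocallyOfFinitePresentation f'] [Flat f]
    (x' : X') (hx' : x' ∈ f'.smoothLocus) : g' x' ∈ f.smoothLocus := by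
  have hlfp' : LocallyOfFinitePresentation (f'.fiberToSpecResidueField (f' x')) :=
    MorphismProperty.of_isPullback (P := @LocallyOfFinitePresentation)
      (IsPullback.of_hasPullback f' (S'.fromSpecResidueField (f' x'))) inferInstance
  have hlfp : LocallyOfFinitePresentation (f.fiberToSpecResidueField (g (f' x'))) :=
    MorphismProperty.of_isPullback (P := @LocallyOfFinitePresentation)
      (IsPullback.of_hasPullback f (S.fromSpecResidueField (g (f' x')))) inferInstance
  have hz' : f'.asFiber x' ∈ (f'.fiberToSpecResidueField (f' x')).smoothLocus :=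
    ((Groth.Agent.S2156.result f' x').mp hx').2
  obtain ⟨T, sq, hT⟩ := exists_fiber_square h (f' x')
  have hfl : Flat (Spec.map (g.residueFieldMap (f' x'))) :=
    Flat.SpecMap_iff.mpr (RingHom.Flat.of_isField (Field.toIsField _) _)
  have hz := mem_smoothLocus_of_flat (f.fiberToSpecResidueField (g (f' x')))
    (Spec.map (g.residueFieldMap (f' x'))) (f'.fiberToSpecResidueField (f' x')) T sq _ hz'
  have hpt : f.fiberι (g (f' x')) (T (f'.asFiber x')) = g' x' := by
    rw [← Scheme.Hom.comp_apply, hT, Scheme.Hom.comp_apply, f'.fiberι_asFiber]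
  have hfx : f (g' x') = g (f' x') := by
    rw [← Scheme.Hom.comp_apply, ← Scheme.Hom.comp_apply, h.w]
  exact (mem_smoothLocus_iff_fiber_aux f (g' x') (g (f' x')) hfx _ hpt).mpr
    ⟨Flat.stalkMap f _, hz⟩

end Groth.Agent.Lib.Helper6.EtLoc
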