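import Mathlib

/-!
# Finite unions of disjoint open subschemes finite over a base
-/

set_option autoImplicit false
set_option linter.unusedSectionVars false
universe u

open CategoryTheory Limits AlgebraicGeometry

namespace Groth.Agent.Lib.Helper6.EtLoc

theorem isClosed_of_isFinite {Y U : Scheme.{u}} (π : Y ⟶ U) [IsSeparated π] (V : Y.Opens)
    (h : IsFinite (V.ι ≫ π)) : IsClosed (V : Set Y) := by
  have h1 : IsFinite V.ι := IsFinite.of_comp V.ι π
  have h2 := V.ι.isClosedMap.isClosed_range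
  rwa [Scheme.Opens.range_ι] at h2

theorem isFinite_sup {Y U : Scheme.{u}} (π : Y ⟶ U) (A B : Y.Opens) (hd : Disjoint A B)
    (hA : IsFinite (A.ι ≫ π)) (hB : IsFinite (B.ι ≫ π)) : IsFinite ((A ⊔ B).ι ≫ π) := by
  have hle1 : A ≤ A ⊔ B := le_sup_left
  have hle2 : B ≤ A ⊔ B := le_sup_right
  have hcompl : IsCompl (Y.homOfLE hle1).opensRange (Y.homOfLE hle2).opensRange := by
    rw [Scheme.opensRange_homOfLE, Scheme.opensRange_homOfLE, isCompl_iff]
    constructor
    · rw [disjoint_iff]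
      ext z
      simp only [TopologicalSpace.Opens.coe_inf, Set.mem_inter_iff, SetLike.mem_coe,
        TopologicalSpace.Opens.coe_bot, Set.mem_empty_iff_false, iff_false, not_and]
      intro hzA hzB
      exact hd.le_bot ⟨hzA, hzB⟩
    · rw [codisjoint_iff]
      ext z
      simp only [TopologicalSpace.Opens.coe_sup, Set.mem_union, SetLike.mem_coe,
        TopologicalSpace.Opens.coe_top, Set.mem_univ, iff_true]
      have hz : (A ⊔ B).ι z ∈ A ⊔ B := z.2
      rcases hz with h | h
      · exact Or.inl h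
      · exact Or.inr h
  obtain ⟨hc⟩ := nonempty_isColimit_binaryCofanMk_of_isCompl _ _ hcompl
  let e : (A ⊔ B).toScheme ≅ A.toScheme ⨿ B.toScheme :=
    hc.coconePointUniqueUpToIso (colimit.isColimit _)
  have key : (A ⊔ B).ι ≫ π = e.hom ≫ coprod.desc (A.ι ≫ π) (B.ι ≫ π) := by
    apply BinaryCofan.IsColimit.hom_ext hc
    · have h1 : Y.homOfLE hle1 ≫ e.hom = coprod.inl :=
        hc.comp_coconePointUniqueUpToIso_hom (colimit.isColimit _) ⟨WalkingPair.left⟩
      show Y.homOfLE hle1 ≫ (A ⊔ B).ι ≫ π =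
        Y.homOfLE hle1 ≫ e.hom ≫ coprod.desc (A.ι ≫ π) (B.ι ≫ π)
      rw [reassoc_of% h1, coprod.inl_desc, ← Category.assoc, Scheme.homOfLE_ι]
    · have h1 : Y.homOfLE hle2 ≫ e.hom = coprod.inr :=
        hc.comp_coconePointUniqueUpToIso_hom (colimit.isColimit _) ⟨WalkingPair.right⟩
      show Y.homOfLE hle2 ≫ (A ⊔ B).ι ≫ π =
        Y.homOfLE hle2 ≫ e.hom ≫ coprod.desc (A.ι ≫ π) (B.ι ≫ π)
      rw [reassoc_of% h1, coprod.inr_desc, ← Category.assoc, Scheme.homOfLE_ι]
  rw [key]
  infer_instance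

theorem isFinite_iSup {Y U : Scheme.{u}} (π : Y ⟶ U) :
    ∀ (K : Type) [Finite K] (V : K → Y.Opens), (∀ k k', k ≠ k' → Disjoint (V k) (V k')) →
      (∀ k, IsFinite ((V k).ι ≫ π)) → IsFinite ((⨆ k, V k).ι ≫ π) := by
  intro K _
  induction K using Finite.induction_empty_option with
  | of_equiv e ih =>
    intro V hd hV
    have h1 := ih (V ∘ e) (fun k k' hkk' => hd _ _ (fun h => hkk' (e.injective h)))
      (fun k => hV (e k))
    have h2 : (⨆ k, (V ∘ e) k) = ⨆ k, V k := e.iSup_comp
    rw [h2] at h1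
    exact h1
  | h_empty =>
    intro V _ _
    have : IsEmpty ((⨆ k : PEmpty, V k : Y.Opens) : Scheme.{u}) := by
      constructor
      intro z
      have hz : (⨆ k : PEmpty, V k : Y.Opens).ι z ∈ (⨆ k : PEmpty, V k : Y.Opens) := z.2
      rw [TopologicalSpace.Opens.mem_iSup] at hz
      obtain ⟨k, -⟩ := hz
      exact k.elim
    infer_instance
  | h_option ih =>
    intro V hd hV
    have h1 := ih (fun k => V (some k)) (fun k k' hkk' => hd _ _ (fun h => hkk' (Option.some_injective _ h)))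
      (fun k => hV (some k))
    have h2 : (⨆ k, V k) = V none ⊔ ⨆ k, V (some k) := iSup_option V
    rw [h2]
    refine isFinite_sup π _ _ ?_ (hV none) h1
    rw [disjoint_iSup_iff]
    intro k
    exact hd _ _ (by simp)

end Groth.Agent.Lib.Helper6.EtLoc
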