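import Mathlib
import Groth.Agent.Lib.Helper6.EtLoc.PIPoint
import Groth.Agent.Lib.Helper6.EtLoc.BaseChange

/-!
# Transporting a splitting over an elementary étale neighbourhood of an étale neighbourhood
-/

set_option autoImplicit false
set_option linter.unusedSectionVars false
universe u

open CategoryTheory Limits AlgebraicGeometry

namespace Groth.Agent.Lib.Helper6.EtLoc

theorem surjective_residueFieldMap_of_eq {A B : Scheme.{u}} {m m' : A ⟶ B} (h : m = m') (w : A) :
    Function.Surjective (m.residueFieldMap w) ↔ Function.Surjective (m'.residueFieldMap w) := by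
  subst h; rfl

section Core

variable {X S U₁ U : Scheme.{u}} (f : X ⟶ S) (g₁ : U₁ ⟶ S) (h : U ⟶ U₁)

/-- The comparison isomorphism `X ×_S U ≅ (X ×_S U₁) ×_{U₁} U`. -/
noncomputable def bcIso : pullback f (h ≫ g₁) ≅ pullback (pullback.snd f g₁) h :=
  (isPullback_bcMap f g₁ h).isoPullback

theorem bcIso_hom_fst : (bcIso f g₁ h).hom ≫ pullback.fst (pullback.snd f g₁) h = bcMap f g₁ h :=
  IsPullback.isoPullback_hom_fst _

theorem bcIso_hom_snd :
    (bcIso f g₁ h).hom ≫ pullback.snd (pullback.snd f g₁) h = pullback.snd f (h ≫ g₁) :=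
  IsPullback.isoPullback_hom_snd _

theorem bcIso_hom_fst_apply (w : ↑(pullback f (h ≫ g₁))) :
    pullback.fst (pullback.snd f g₁) h ((bcIso f g₁ h).hom w) = bcMap f g₁ h w := by
  rw [← Scheme.Hom.comp_apply, bcIso_hom_fst]

theorem bcIso_hom_snd_apply (w : ↑(pullback f (h ≫ g₁))) :
    pullback.snd (pullback.snd f g₁) h ((bcIso f g₁ h).hom w) = pullback.snd f (h ≫ g₁) w := by
  rw [← Scheme.Hom.comp_apply, bcIso_hom_snd]

theorem bcIso_hom_inv_apply (z : ↑(pullback (pullback.snd f g₁) h)) :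
    (bcIso f g₁ h).hom ((bcIso f g₁ h).inv z) = z := by
  rw [← Scheme.Hom.comp_apply, Iso.inv_hom_id]; rfl

theorem bcIso_inv_hom_apply (w : ↑(pullback f (h ≫ g₁))) :
    (bcIso f g₁ h).inv ((bcIso f g₁ h).hom w) = w := by
  rw [← Scheme.Hom.comp_apply, Iso.hom_inv_id]; rfl

theorem isFinite_bcIso_preimage (V' : (pullback (pullback.snd f g₁) h).Opens)
    (hV' : IsFinite (V'.ι ≫ pullback.snd (pullback.snd f g₁) h)) :
    IsFinite (((bcIso f g₁ h).hom ⁻¹ᵁ V').ι ≫ pullback.snd f (h ≫ g₁)) := by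
  have h1 : ((bcIso f g₁ h).hom ⁻¹ᵁ V').ι ≫ pullback.snd f (h ≫ g₁) =
      ((bcIso f g₁ h).hom ∣_ V') ≫ V'.ι ≫ pullback.snd (pullback.snd f g₁) h := by
    rw [← bcIso_hom_snd, ← Category.assoc, ← Category.assoc, morphismRestrict_ι]
  rw [h1]
  have : MorphismProperty.RespectsIso @IsFinite.{u} :=
    MorphismProperty.IsStableUnderBaseChange.respectsIso
  exact (MorphismProperty.cancel_left_of_respectsIso @IsFinite _ _).mpr hV'

/-- Residue field surjectivity for the comparison map over an elementary neighbourhood. -/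
theorem surjective_residueFieldMap_bcMap (w : ↑(pullback f (h ≫ g₁)))
    (hres : Function.Surjective (h.residueFieldMap (pullback.snd f (h ≫ g₁) w))) :
    Function.Surjective ((bcMap f g₁ h).residueFieldMap w) := by
  rw [← surjective_residueFieldMap_of_eq (bcIso_hom_fst f g₁ h) w]
  refine surjective_residueFieldMap_comp _ _ _ (surj_of_isIso _) ?_
  apply surjective_fst_residueFieldMap
  rw [surjective_residueFieldMap_congr h (bcIso_hom_snd_apply f g₁ h w)]
  exact hres

/-- Core transport statement. -/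
theorem core_split {ι : Type} (x : ι → X) (q : ℕ) (u₁ : U₁) (u : U) (hu : h u = u₁)
    (hres : Function.Surjective (h.residueFieldMap u))
    {n : ℕ} (y : Fin n → ↑(pullback f g₁))
    (hyu : ∀ j, pullback.snd f g₁ (y j) = u₁)
    (hY : ∀ t : ↑(pullback f g₁), pullback.snd f g₁ t = u₁ →
      (∃ i, pullback.fst f g₁ t = x i) → ∃ j, y j = t)
    (hPI : ∀ j, PIhom q ((pullback.snd f g₁).residueFieldMap (y j)).hom)
    {K : Type} (lab : K → Fin n) (V' : K → (pullback (pullback.snd f g₁) h).Opens)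
    (h1 : ∀ k, IsFinite ((V' k).ι ≫ pullback.snd (pullback.snd f g₁) h))
    (h2 : ∀ k (w : ↑(pullback (pullback.snd f g₁) h)), w ∈ V' k →
      pullback.snd (pullback.snd f g₁) h w = u →
      pullback.fst (pullback.snd f g₁) h w = y (lab k))
    (h4 : ∀ (w : ↑(pullback (pullback.snd f g₁) h)) (j : Fin n),
      pullback.snd (pullback.snd f g₁) h w = u →
      pullback.fst (pullback.snd f g₁) h w = y j → ∃ k, lab k = j ∧ w ∈ V' k) :
    ∃ (k : Fin n → K) (w : Fin n → ↑(pullback f (h ≫ g₁))),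
      (∀ j, lab (k j) = j) ∧
      (∀ j, w j ∈ (bcIso f g₁ h).hom ⁻¹ᵁ V' (k j)) ∧
      (∀ j, pullback.snd f (h ≫ g₁) (w j) = u) ∧
      (∀ j, bcMap f g₁ h (w j) = y j) ∧
      (∀ j (w' : ↑(pullback f (h ≫ g₁))), w' ∈ (bcIso f g₁ h).hom ⁻¹ᵁ V' (k j) →
        pullback.snd f (h ≫ g₁) w' = u → w' = w j) ∧
      (∀ j, PIhom q ((pullback.snd f (h ≫ g₁)).residueFieldMap (w j)).hom) ∧
      (∀ j, IsFinite (((bcIso f g₁ h).hom ⁻¹ᵁ V' (k j)).ι ≫ pullback.snd f (h ≫ g₁))) ∧
      (∀ (w' : ↑(pullback f (h ≫ g₁))) (i : ι), pullback.snd f (h ≫ g₁) w' = u →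
        pullback.fst f (h ≫ g₁) w' = x i →
        ∃ j, pullback.fst f g₁ (y j) = x i ∧ w' = w j) := by
  have hz : ∀ j, ∃ z : ↑(pullback (pullback.snd f g₁) h),
      pullback.fst (pullback.snd f g₁) h z = y j ∧ pullback.snd (pullback.snd f g₁) h z = u :=
    fun j => Scheme.Pullback.exists_preimage_pullback (y j) u ((hyu j).trans hu.symm)
  choose z hz1 hz2 using hz
  have hk : ∀ j, ∃ k, lab k = j ∧ z j ∈ V' k := fun j => h4 (z j) j (hz2 j) (hz1 j)
  choose k hk1 hk2 using hk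
  -- uniqueness of the point over `(y j, u)`
  have huniq : ∀ j (z' : ↑(pullback (pullback.snd f g₁) h)),
      pullback.fst (pullback.snd f g₁) h z' = y j →
      pullback.snd (pullback.snd f g₁) h z' = u → z' = z j := by
    intro j z' hz'1 hz'2
    refine eq_of_fst_eq_snd_eq z' (z j) (hz'1.trans (hz1 j).symm) (hz'2.trans (hz2 j).symm) ?_
    rw [surjective_residueFieldMap_congr h (hz2 j)]
    exact hres
  refine ⟨k, fun j => (bcIso f g₁ h).inv (z j), hk1, ?_, ?_, ?_, ?_, ?_, ?_, ?_⟩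
  · intro j
    show (bcIso f g₁ h).hom ((bcIso f g₁ h).inv (z j)) ∈ V' (k j)
    rw [bcIso_hom_inv_apply]
    exact hk2 j
  · intro j
    rw [← bcIso_hom_snd_apply, bcIso_hom_inv_apply]
    exact hz2 j
  · intro j
    rw [← bcIso_hom_fst_apply, bcIso_hom_inv_apply]
    exact hz1 j
  · intro j w' hw' hw'u
    have hw'V : (bcIso f g₁ h).hom w' ∈ V' (k j) := hw'
    have e1 : pullback.snd (pullback.snd f g₁) h ((bcIso f g₁ h).hom w') = u := by
      rw [bcIso_hom_snd_apply]; exact hw'u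
    have e2 : pullback.fst (pullback.snd f g₁) h ((bcIso f g₁ h).hom w') = y j := by
      rw [h2 (k j) _ hw'V e1, hk1 j]
    have e3 := huniq j _ e2 e1
    show w' = (bcIso f g₁ h).inv (z j)
    rw [← e3, bcIso_inv_hom_apply]
  · intro j
    have e1 : pullback.snd f (h ≫ g₁) ((bcIso f g₁ h).inv (z j)) = u := by
      rw [← bcIso_hom_snd_apply, bcIso_hom_inv_apply]
      exact hz2 j
    have e2 : bcMap f g₁ h ((bcIso f g₁ h).inv (z j)) = y j := by
      rw [← bcIso_hom_fst_apply, bcIso_hom_inv_apply]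
      exact hz1 j
    refine pihom_of_square (bcMap f g₁ h) (pullback.snd f g₁) (pullback.snd f (h ≫ g₁)) h
      (bcMap_snd f g₁ h) _ q ?_ ?_
    · apply surjective_residueFieldMap_bcMap
      rw [surjective_residueFieldMap_congr h e1]
      exact hres
    · rw [PIhom_congr_point _ e2]
      exact hPI j
  · intro j
    exact isFinite_bcIso_preimage f g₁ h _ (h1 (k j))
  · intro w' i hw'u hw'x
    have e1 : pullback.snd f g₁ (bcMap f g₁ h w') = u₁ := by
      rw [snd_bcMap_apply, hw'u, hu]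
    have e2 : pullback.fst f g₁ (bcMap f g₁ h w') = x i := by
      rw [fst_bcMap_apply, hw'x]
    obtain ⟨j, hj⟩ := hY _ e1 ⟨i, e2⟩
    refine ⟨j, by rw [hj]; exact e2, ?_⟩
    have e3 : pullback.snd (pullback.snd f g₁) h ((bcIso f g₁ h).hom w') = u := by
      rw [bcIso_hom_snd_apply]; exact hw'u
    have e4 : pullback.fst (pullback.snd f g₁) h ((bcIso f g₁ h).hom w') = y j := by
      rw [bcIso_hom_fst_apply, hj]
    have e5 := huniq j _ e4 e3
    show w' = (bcIso f g₁ h).inv (z j)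
    rw [← e5, bcIso_inv_hom_apply]

end Core

theorem expChar_residueField_of_eq {U S : Scheme.{u}} (g : U ⟶ S) (u : U) (s : S) (h : g u = s)
    (q : ℕ) [ExpChar ↑(S.residueField s) q] : ExpChar ↑(U.residueField u) q := by
  subst h
  exact expChar_of_injective_ringHom (g.residueFieldMap u).hom.injective q

/-- Setup: an étale neighbourhood over which the points above the given quasi-finite points are
finitely many, with purely inseparable residue field extensions. -/
theorem exists_pi_setup {X S : Scheme.{u}} (f : X ⟶ S) [LocallyOfFiniteType f] (s : S)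
    {ι : Type} [Finite ι] (x : ι → X) (hs : ∀ i, f (x i) = s) (hx : ∀ i, f.QuasiFiniteAt (x i))
    (q : ℕ) [ExpChar ↑(S.residueField s) q] :
    ∃ (U₁ : Scheme.{u}) (g₁ : U₁ ⟶ S) (u₁ : U₁), Etale g₁ ∧ g₁ u₁ = s ∧
      ∃ (n : ℕ) (y : Fin n → ↑(pullback f g₁)) (lab₀ : Fin n → ι), Function.Injective y ∧
        (∀ j, pullback.snd f g₁ (y j) = u₁) ∧
        (∀ j, pullback.fst f g₁ (y j) = x (lab₀ j)) ∧
        (∀ t : ↑(pullback f g₁), pullback.snd f g₁ t = u₁ →
          (∃ i, pullback.fst f g₁ t = x i) → ∃ j, y j = t) ∧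
        (∀ j, PIhom q ((pullback.snd f g₁).residueFieldMap (y j)).hom) ∧
        (∀ j, (pullback.snd f g₁).QuasiFiniteAt (y j)) := by
  obtain ⟨U₁, g₁, u₁, hg₁, hu₁, hPI, hFin⟩ := exists_pi_nbhd f s x hs hx q
  have hF : Finite ↥{t : ↑(pullback f g₁) | pullback.snd f g₁ t = u₁ ∧
      ∃ i, pullback.fst f g₁ t = x i} := hFin.to_subtype
  let e := Finite.equivFin ↥{t : ↑(pullback f g₁) | pullback.snd f g₁ t = u₁ ∧
      ∃ i, pullback.fst f g₁ t = x i}
  have hmem : ∀ j, pullback.snd f g₁ (e.symm j).1 = u₁ ∧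
      ∃ i, pullback.fst f g₁ (e.symm j).1 = x i := fun j => (e.symm j).2
  choose hy1 lab₀ hy2 using hmem
  refine ⟨U₁, g₁, u₁, hg₁, hu₁, _, fun j => (e.symm j).1, lab₀, ?_, hy1, hy2, ?_, ?_, ?_⟩
  · intro j j' hjj'
    exact e.symm.injective (Subtype.ext hjj')
  · intro t ht1 ht2
    refine ⟨e ⟨t, ht1, ht2⟩, ?_⟩
    show (e.symm (e ⟨t, ht1, ht2⟩)).1 = t
    rw [Equiv.symm_apply_apply]
  · intro j
    exact hPI _ (hy1 j) ⟨_, hy2 j⟩
  · intro j
    apply quasiFiniteAt_snd
    rw [hy2 j]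
    exact hx _

end Groth.Agent.Lib.Helper6.EtLoc
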