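import Mathlib
import Groth.Agent.Lib.Helper6.EtLoc.Nbhd
import Groth.Agent.Lib.Helper6.EtLoc.ResField

/-!
# Amalgamation of étale neighbourhoods with trivial residue field extension
-/

set_option autoImplicit false
set_option linter.unusedSectionVars false
universe u

open CategoryTheory Limits AlgebraicGeometry

namespace Groth.Agent.Lib.Helper6.EtLoc

theorem quasiFiniteAt_of_finite_fiber {X Y : Scheme.{u}} (f : X ⟶ Y) [LocallyOfFiniteType f]
    (x : X) (hfin : (f ⁻¹' {f x}).Finite) : f.QuasiFiniteAt x := by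
  rw [Scheme.Hom.quasiFiniteAt_iff_isOpen_singleton_asFiber]
  have hF : Finite (f.fiber (f x)) := by
    have := hfin.to_subtype
    exact (f.fiberHomeo (f x)).toEquiv.finite_iff.mpr this
  have h1 : LocallyOfFiniteType (f.fiberToSpecResidueField (f x)) :=
    (inferInstance : LocallyOfFiniteType
      (Limits.pullback.snd f (Y.fromSpecResidueField (f x))))
  have h2 : LocallyQuasiFinite (f.fiberToSpecResidueField (f x)) :=
    .of_finite_preimage_singleton _ (fun _ => Set.toFinite _)
  have : IsLocallyArtinian (f.fiber (f x)) :=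
    .of_locallyQuasiFinite (f.fiberToSpecResidueField (f x))
  exact isOpen_discrete _

section

variable {X S : Scheme.{u}} {P : MorphismProperty Scheme.{u}} {f : X ⟶ S}

/-- Amalgamation of neighbourhood data over finitely many points, keeping the residue field
extension trivial. -/
theorem exists_common_nbhd_res [P.IsStableUnderBaseChange] (s : S) :
    ∀ (ι : Type) [Finite ι] (x : ι → X),
      (∀ i, ∃ (U : Scheme.{u}) (g : U ⟶ S) (u : U), Etale g ∧ g u = s ∧
        Function.Surjective (g.residueFieldMap u) ∧ NbhdData P f (x i) g u) →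
      ∃ (U : Scheme.{u}) (g : U ⟶ S) (u : U), Etale g ∧ g u = s ∧
        Function.Surjective (g.residueFieldMap u) ∧ ∀ i, NbhdData P f (x i) g u := by
  intro ι _
  induction ι using Finite.induction_empty_option with
  | of_equiv e ih =>
    intro x hx
    obtain ⟨U, g, u, hg, hgu, hres, hd⟩ := ih (x ∘ e) (fun i => hx (e i))
    refine ⟨U, g, u, hg, hgu, hres, fun i => ?_⟩
    have := hd (e.symm i)
    simpa using this
  | h_empty =>
    intro x _
    refine ⟨S, 𝟙 S, s, inferInstance, rfl, ?_, fun i => i.elim⟩
    rw [Scheme.residueFieldMap_id]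
    intro a
    exact ⟨a, rfl⟩
  | h_option ih =>
    intro x hx
    obtain ⟨U₁, g₁, u₁, hg₁, hgu₁, hres₁, hd₁⟩ :=
      ih (fun i => x (some i)) (fun i => hx (some i))
    obtain ⟨U₂, g₂, u₂, hg₂, hgu₂, hres₂, hd₂⟩ := hx none
    obtain ⟨u, hu1, hu2⟩ := Scheme.Pullback.exists_preimage_pullback (f := g₁) (g := g₂) u₁ u₂
      (by rw [hgu₁, hgu₂])
    refine ⟨pullback g₁ g₂, pullback.fst g₁ g₂ ≫ g₁, u, inferInstance, ?_, ?_, ?_⟩
    · rw [Scheme.Hom.comp_apply, hu1, hgu₁]
    · apply surjective_residueFieldMap_comp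
      · apply surjective_fst_residueFieldMap
        exact (surjective_residueFieldMap_congr g₂ hu2).mpr hres₂
      · exact (surjective_residueFieldMap_congr g₁ hu1).mpr hres₁
    · rintro (_ | i)
      · exact (hd₂.baseChange (pullback.snd g₁ g₂) u hu2).congr pullback.condition.symm
      · exact (hd₁ i).baseChange (pullback.fst g₁ g₂) u hu1

end

end Groth.Agent.Lib.Helper6.EtLoc
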