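import Mathlib
import Groth.Agent.Lib.Helper6.EtLoc.UnramPoint
import Groth.Agent.Lib.Helper6.EtLoc.ResField
import Groth.Agent.Lib.Helper6.QFSplit
import Groth.Agent.Lib.Helper9.UnivHomeo

/-!
# Étale localization at a quasi-finite point, with trivial residue field extension
-/

set_option autoImplicit false
set_option linter.unusedSectionVars false
universe u

open CategoryTheory Limits AlgebraicGeometry TensorProduct

namespace Groth.Agent.Lib.Helper6.EtLoc

/-- Ring-level trivial residue field extension gives a surjective scheme-level residue field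
map. -/
theorem surjective_residueFieldMap_specMap {R R' : Type u} [CommRing R] [CommRing R']
    [Algebra R R'] (p : Ideal R) [p.IsPrime] (P : Ideal R') [hP : P.IsPrime] [P.LiesOver p]
    (H : Function.Bijective (Ideal.ResidueField.mapₐ p P (Algebra.ofId _ _) (P.over_def p))) :
    Function.Surjective ((Spec.map (CommRingCat.ofHom (algebraMap R R'))).residueFieldMap
      (⟨P, hP⟩ : PrimeSpectrum R')) := by
  have hp : p = P.under R := P.over_def p
  subst hp
  have h1 : IsIso ((Spec.map (CommRingCat.ofHom (algebraMap R R'))).residueFieldMap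
      (⟨P, hP⟩ : PrimeSpectrum R')) := by
    rw [Groth.Agent.Helper9.UH.isIso_residueFieldMap_iff]
    exact H
  exact surj_of_isIso _

/-- The ring-level splitting at an isolated quasi-finite prime. -/
theorem qf_split (R B : Type u) [CommRing R] [CommRing B] [Algebra R B] [Algebra.FiniteType R B]
    (p : Ideal R) [p.IsPrime] (q : Ideal B) [q.IsPrime] [Algebra.QuasiFiniteAt R q]
    (hiso : ∀ q' : Ideal B, q'.IsPrime → q'.comap (algebraMap R B) = p → q' = q) :
    ∃ (R' : Type u) (_ : CommRing R') (_ : Algebra R R') (_ : Algebra.Etale R R') (p' : Ideal R')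
      (_ : p'.IsPrime) (_ : p'.LiesOver p) (n : ℕ) (A : Fin n → Type u) (_ : ∀ i, CommRing (A i))
      (_ : ∀ i, Algebra R' (A i)) (C : Type u) (_ : CommRing C) (_ : Algebra R' C),
      Function.Bijective (Ideal.ResidueField.mapₐ p p' (Algebra.ofId _ _) (p'.over_def p)) ∧
      Nonempty ((R' ⊗[R] B) ≃ₐ[R'] ((∀ i, A i) × C)) ∧
        (∀ i, Module.Finite R' (A i) ∧
          ∃ y : Ideal (A i), y.IsPrime ∧ y.comap (algebraMap R' (A i)) = p') ∧
        ∀ (y : Ideal C), y.IsPrime → y.comap (algebraMap R' C) ≠ p' := by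
  obtain ⟨R', _, _, _, p', _, hp'p, ι, _, A, _, _, C, _, _, hbij, ⟨e⟩, hA, hC⟩ :=
    QFSplit.induct _ R B p le_rfl
  let ef := Finite.equivFin ι
  refine ⟨R', inferInstance, inferInstance, inferInstance, p', inferInstance, inferInstance,
    Nat.card ι, fun k => A (ef.symm k), fun _ => inferInstance, fun _ => inferInstance, C,
    inferInstance, inferInstance, hbij,
    ⟨e.trans (AlgEquiv.prodCongr (AlgEquiv.piCongrLeft' R' A ef) AlgEquiv.refl)⟩,
    fun k => ⟨(hA _).1, ?_⟩, ?_⟩
  · obtain ⟨y, ⟨hy, hyp⟩, -⟩ := (hA (ef.symm k)).2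
    exact ⟨y, hy, hyp⟩
  · intro y hy hyp
    let π : R' ⊗[R] B →ₐ[R'] C := (AlgHom.snd R' _ _).comp e.toAlgHom
    have hπ : Function.Surjective π := by
      intro c
      exact ⟨e.symm (0, c), by simp [π]⟩
    have hy' : (y.comap π.toRingHom).IsPrime := inferInstance
    have hq'p : ((y.comap π.toRingHom).comap (Algebra.TensorProduct.includeRight :
        B →ₐ[R] R' ⊗[R] B).toRingHom).IsPrime := inferInstance
    have hq' : q = (y.comap π.toRingHom).comap (Algebra.TensorProduct.includeRight :
        B →ₐ[R] R' ⊗[R] B).toRingHom := by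
      symm
      apply hiso _ hq'p
      have h1 : p = p'.comap (algebraMap R R') := hp'p.over
      rw [h1, ← hyp, Ideal.comap_comap, Ideal.comap_comap, Ideal.comap_comap]
      congr 1
      ext r
      show π ((Algebra.TensorProduct.includeRight : B →ₐ[R] R' ⊗[R] B) (algebraMap R B r)) =
        algebraMap R' C (algebraMap R R' r)
      rw [AlgHom.commutes, IsScalarTower.algebraMap_apply R R' (R' ⊗[R] B), AlgHom.commutes]
    have h2 : Algebra.QuasiFiniteAt R' (y.comap π.toRingHom) :=
      Algebra.QuasiFiniteAt.baseChange q _ hq'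
    have h3 : Algebra.QuasiFiniteAt R' y :=
      Algebra.QuasiFiniteAt.of_surjectiveOnStalks (y.comap π.toRingHom) π
        (RingHom.surjectiveOnStalks_of_surjective hπ) y rfl
    exact hC y hyp h3


theorem quasiFiniteAt_of_ringHom {R B : Type*} [CommRing R] [CommRing B] [inst : Algebra R B]
    (q : Ideal B) [q.IsPrime] (h : (algebraMap R B).QuasiFiniteAt q) :
    Algebra.QuasiFiniteAt R q := by
  have heq : (algebraMap R B).toAlgebra = inst := Algebra.algebra_ext _ _ (fun r => rfl)
  unfold RingHom.QuasiFiniteAt at h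
  rw [heq] at h
  exact h

/-- Étale localization at a quasi-finite point, with trivial residue field extension. -/
theorem qf_point {X S : Scheme.{u}} (f : X ⟶ S) [LocallyOfFiniteType f] (x₀ : X)
    (hx : f.QuasiFiniteAt x₀) :
    ∃ (U : Scheme.{u}) (g : U ⟶ S) (u : U), Etale g ∧ g u = f x₀ ∧
      Function.Surjective (g.residueFieldMap u) ∧ NbhdData @IsFinite f x₀ g u := by
  obtain ⟨R, B₀, _, _, _, jS, jX₀, _, _, hcomm₀, q₀, hq₀x, -, hprop, hqf⟩ :=
    exists_chart_data f x₀ ⊤ trivial
  have hft₀ : Algebra.FiniteType R B₀ :=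
    RingHom.finiteType_algebraMap.mp (hprop @LocallyOfFiniteType _ inferInstance)
  have hq₀p : q₀.asIdeal.IsPrime := q₀.isPrime
  have hqf₀ : Algebra.QuasiFiniteAt R q₀.asIdeal := by
    apply quasiFiniteAt_of_ringHom
    apply hqf
    exact Scheme.Hom.quasiFiniteAt_comp_iff_of_isOpenImmersion.mpr hx
  obtain ⟨b, hbq, hiso⟩ := exists_isolating R B₀ q₀.asIdeal
  obtain ⟨jX, _, hcomm, hq, hjq, -⟩ := away_chart f R B₀ jS jX₀ hcomm₀ q₀ b hbq
  have hp : (q₀.asIdeal.comap (algebraMap R B₀)).IsPrime := inferInstance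
  have hftB : Algebra.FiniteType R (Localization.Away b) :=
    Algebra.FiniteType.trans hft₀ (IsLocalization.finiteType_of_monoid_fg (Submonoid.powers b) _)
  have hdisj : Disjoint (Submonoid.powers b : Set B₀) (q₀.asIdeal : Set B₀) := by
    rw [Ideal.disjoint_powers_iff_notMem_of_isPrime]; exact hbq
  have hqfB : Algebra.QuasiFiniteAt R (q₀.asIdeal.map (algebraMap B₀ (Localization.Away b))) :=
    Algebra.QuasiFiniteAt.of_surjectiveOnStalks q₀.asIdeal
      (IsScalarTower.toAlgHom R B₀ (Localization.Away b))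
      (RingHom.surjectiveOnStalks_of_isLocalization (Submonoid.powers b) _) _
      (IsLocalization.under_map_of_isPrime_disjoint (Submonoid.powers b) _ q₀.isPrime hdisj).symm
  obtain ⟨R', _, _, _, p', hp', hp'p, n, A, _, _, C, _, _, hbij, ⟨e⟩, hA, hC⟩ :=
    qf_split R (Localization.Away b) (q₀.asIdeal.comap (algebraMap R B₀))
      (q₀.asIdeal.map (algebraMap B₀ (Localization.Away b)))
      (fun q' hq' hq'c => isolated_away R B₀ q₀.asIdeal b hbq hiso q' hq' hq'c)
  have hp'under : p'.comap (algebraMap R R') = q₀.asIdeal.comap (algebraMap R B₀) :=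
    (hp'p.over).symm
  refine ⟨Spec (.of R'), baseMap R R' jS, (⟨p', hp'⟩ : PrimeSpectrum R'),
    etale_baseMap R R' jS, ?_, ?_, ?_⟩
  · rw [baseMap_apply, ← hq₀x]
    have h1 : f (jX₀ q₀) = jS ((Spec.map (CommRingCat.ofHom (algebraMap R B₀))) q₀) := by
      have := congrArg (fun φ : Spec (.of B₀) ⟶ S => φ q₀) hcomm₀
      exact this.symm
    rw [h1]
    congr 1
    apply PrimeSpectrum.ext
    exact hp'under
  · exact surjective_residueFieldMap_comp _ _ _
      (surjective_residueFieldMap_specMap _ p' hbij) (surj_of_isIso _)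
  · rw [← hq₀x, ← hjq]
    have : MorphismProperty.RespectsIso @IsFinite.{u} :=
      MorphismProperty.IsStableUnderBaseChange.respectsIso
    refine nbhdData_of_decomp @IsFinite f R
      (Localization.Away b) R' jS jX hcomm p'
      (q₀.asIdeal.map (algebraMap B₀ (Localization.Away b))) ?_ A C e ?_ ?_
    · intro q' hq' hq'c
      exact isolated_away R B₀ q₀.asIdeal b hbq hiso q' hq' (hq'c.trans hp'under)
    · intro k
      refine ⟨?_, (hA k).2⟩
      rw [IsFinite.SpecMap_iff]
      have := (hA k).1
      exact RingHom.finite_algebraMap.mpr this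
    · intro y hy
      exact hC y hy

end Groth.Agent.Lib.Helper6.EtLoc
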