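import Mathlib

/-!
# Disjointification of finitely many clopen subschemes
-/

set_option autoImplicit false
set_option linter.unusedSectionVars false
universe u

open CategoryTheory Limits AlgebraicGeometry

namespace Groth.Agent.Lib.Helper6.EtLoc

theorem isClosedImmersion_homOfLE {Y : Scheme.{u}} {A B : Y.Opens} (e : A ≤ B)
    (hA : IsClosed (A : Set Y)) : IsClosedImmersion (Y.homOfLE e) := by
  apply IsClosedImmersion.of_isPreimmersion
  have : Set.range (Y.homOfLE e) = B.ι ⁻¹' (A : Set Y) := by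
    have h1 : Set.range (Y.homOfLE e) = B.ι ⁻¹' (Set.range A.ι) := by
      rw [← Y.homOfLE_ι e, Scheme.Hom.comp_base, TopCat.coe_comp, Set.range_comp,
        Set.preimage_image_eq _ B.ι.isOpenEmbedding.injective]
    rw [h1, Scheme.Opens.range_ι]
  rw [this]
  exact hA.preimage B.ι.continuous

/-- Disjointification of finitely many clopen pieces, keeping the points over `u`. -/
theorem disjointify {Y U : Scheme.{u}} (π : Y ⟶ U) (u : U) {K : Type} [Finite K]
    (V : K → Y.Opens) (hcl : ∀ k, IsClosed (V k : Set Y))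
    (P : MorphismProperty Scheme.{u})
    (hP : ∀ {A B C : Scheme.{u}} (i : A ⟶ B) (h : B ⟶ C), IsOpenImmersion i → IsClosedImmersion i →
      P h → P (i ≫ h))
    (h1 : ∀ k, P ((V k).ι ≫ π))
    (h3 : ∀ (k k' : K) (w : Y), w ∈ V k → w ∈ V k' → π w = u → k = k') :
    ∃ V' : K → Y.Opens, (∀ k, V' k ≤ V k) ∧ (∀ k, IsClosed (V' k : Set Y)) ∧
      (∀ k k', k ≠ k' → Disjoint (V' k) (V' k')) ∧ (∀ k, P ((V' k).ι ≫ π)) ∧
      (∀ k (w : Y), w ∈ V k → π w = u → w ∈ V' k) := by
  classical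
  obtain ⟨m, ⟨e⟩⟩ := Finite.exists_equiv_fin K
  have hclU : ∀ k, IsClosed (⋃ l ∈ {l : K | e l < e k}, (V l : Set Y)) := fun k =>
    Set.Finite.isClosed_biUnion (Set.toFinite _) (fun l _ => hcl l)
  let Vc : K → Y.Opens := fun k => ⟨(⋃ l ∈ {l : K | e l < e k}, (V l : Set Y))ᶜ,
    (hclU k).isOpen_compl⟩
  have hVc_mem : ∀ k (w : Y), w ∈ Vc k ↔ ∀ l, e l < e k → w ∉ V l := by
    intro k w
    show w ∈ (⋃ l ∈ {l : K | e l < e k}, (V l : Set Y))ᶜ ↔ _
    simp only [Set.mem_compl_iff, Set.mem_iUnion, SetLike.mem_coe, not_exists]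
    constructor
    · intro h l hl hw; exact h l hl hw
    · intro h l hl hw; exact h l hl hw
  have hVc_cl : ∀ k, IsClosed (Vc k : Set Y) := by
    intro k
    show IsClosed ((⋃ l ∈ {l : K | e l < e k}, (V l : Set Y))ᶜ)
    rw [isClosed_compl_iff]
    exact isOpen_biUnion fun l _ => (V l).2
  refine ⟨fun k => V k ⊓ Vc k, fun k => inf_le_left, fun k => ?_, ?_, ?_, ?_⟩
  · exact (hcl k).inter (hVc_cl k)
  · intro k k' hne
    rw [disjoint_iff]
    ext w
    simp only [TopologicalSpace.Opens.coe_inf, Set.mem_inter_iff, SetLike.mem_coe,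
      TopologicalSpace.Opens.coe_bot, Set.mem_empty_iff_false, iff_false, not_and]
    rintro ⟨hwk, hwck⟩ hwk' hwck'
    have hne' : e k ≠ e k' := fun h => hne (e.injective h)
    rcases lt_or_gt_of_ne hne' with h | h
    · exact (hVc_mem k' w).mp hwck' k h hwk
    · exact (hVc_mem k w).mp hwck k' h hwk'
  · intro k
    have hle : V k ⊓ Vc k ≤ V k := inf_le_left
    have hci : IsClosedImmersion (Y.homOfLE hle) :=
      isClosedImmersion_homOfLE hle ((hcl k).inter (hVc_cl k))
    have := hP (Y.homOfLE hle) ((V k).ι ≫ π) inferInstance hci (h1 k)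
    rwa [← Category.assoc, Scheme.homOfLE_ι] at this
  · intro k w hw hwu
    refine ⟨hw, (hVc_mem k w).mpr fun l hl hwl => ?_⟩
    have := h3 l k w hwl hw hwu
    rw [this] at hl
    exact lt_irrefl _ hl

end Groth.Agent.Lib.Helper6.EtLoc
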