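import Mathlib
import Groth.Agent.Lib.Helper6.EtLoc.QFPoint
import Groth.Agent.Lib.Helper6.EtLoc.FinUnion
import Groth.Agent.Lib.Helper6.EtLoc.NbhdRes
import Groth.Agent.Lib.Helper6.EtLoc.Sep

/-!
# Splitting off a finite clopen piece containing given quasi-finite points
-/

set_option autoImplicit false
set_option linter.unusedSectionVars false
universe u

open CategoryTheory Limits AlgebraicGeometry

namespace Groth.Agent.Lib.Helper6.EtLoc

/-- Disjoint clopen finite pieces around finitely many quasi-finite points of a fibre, after an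
elementary étale base change. -/
theorem qf_points_pieces {X S : Scheme.{u}} (f : X ⟶ S) [LocallyOfFiniteType f] [IsSeparated f]
    (s : S) {ι : Type} [Finite ι] (x : ι → X) (hinj : Function.Injective x)
    (hxs : ∀ i, f (x i) = s) (hqf : ∀ i, f.QuasiFiniteAt (x i)) :
    ∃ (U : Scheme.{u}) (g : U ⟶ S) (u : U), Etale g ∧ g u = s ∧
      Function.Surjective (g.residueFieldMap u) ∧
      ∃ (K : Type) (_ : Finite K) (lab : K → ι) (V : K → (pullback f g).Opens),
        (∀ k, IsClosed (V k : Set ↑(pullback f g))) ∧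
        (∀ k k', k ≠ k' → Disjoint (V k) (V k')) ∧
        (∀ k, IsFinite ((V k).ι ≫ pullback.snd f g)) ∧
        (∀ k (w : ↑(pullback f g)), w ∈ V k → pullback.snd f g w = u →
          pullback.fst f g w = x (lab k)) ∧
        (∀ (w : ↑(pullback f g)) (i : ι), pullback.snd f g w = u → pullback.fst f g w = x i →
          ∃ k, lab k = i ∧ w ∈ V k) := by
  classical
  obtain ⟨U, g, u, hg, hgu, hres, hd⟩ :=
    exists_common_nbhd_res (P := @IsFinite) (f := f) s ι x
      (fun i => by
        obtain ⟨U, g, u, h1, h2, h3, h4⟩ := qf_point f (x i) (hqf i)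
        exact ⟨U, g, u, h1, h2.trans (hxs i), h3, h4⟩)
  obtain ⟨K, hK, lab, V, h1, h2, h3, h4⟩ := assemble x hinj g u hd
  have hcl : ∀ k, IsClosed (V k : Set ↑(pullback f g)) := fun k =>
    isClosed_of_isFinite (pullback.snd f g) (V k) (h1 k).1
  obtain ⟨V', hV'le, hV'cl, hV'd, hV'fin, hV'pt⟩ :=
    disjointify (pullback.snd f g) u V hcl @IsFinite
      (fun i h hi hci hh => by
        have := hh
        infer_instance)
      (fun k => (h1 k).1) h3
  refine ⟨U, g, u, hg, hgu, hres, K, hK, lab, V', hV'cl, hV'd, hV'fin, ?_, ?_⟩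
  · intro k w hw hwu
    exact h2 k w (hV'le k hw) hwu
  · intro w i hwu hwx
    obtain ⟨k, hk, hwk⟩ := h4 w i hwu hwx
    exact ⟨k, hk, hV'pt k w hwk hwu⟩

/-- A clopen piece, finite over the base, containing all points over `u` lying over the given
quasi-finite points. -/
theorem qf_points_clopen {X S : Scheme.{u}} (f : X ⟶ S) [LocallyOfFiniteType f] [IsSeparated f]
    (s : S) {ι : Type} [Finite ι] (x : ι → X) (hinj : Function.Injective x)
    (hxs : ∀ i, f (x i) = s) (hqf : ∀ i, f.QuasiFiniteAt (x i)) :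
    ∃ (U : Scheme.{u}) (g : U ⟶ S) (u : U), Etale g ∧ g u = s ∧
      Function.Surjective (g.residueFieldMap u) ∧
      ∃ V : (pullback f g).Opens, IsClopen (V : Set ↑(pullback f g)) ∧
        IsFinite (V.ι ≫ pullback.snd f g) ∧
        (∀ (w : ↑(pullback f g)) (i : ι), pullback.snd f g w = u → pullback.fst f g w = x i →
          w ∈ V) := by
  obtain ⟨U, g, u, hg, hgu, hres, K, hK, lab, V, hcl, hd, hfin, h2, h4⟩ :=
    qf_points_pieces f s x hinj hxs hqf
  refine ⟨U, g, u, hg, hgu, hres, ⨆ k, V k, ⟨?_, (⨆ k, V k).2⟩,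
    isFinite_iSup (pullback.snd f g) K V hd hfin, ?_⟩
  · rw [TopologicalSpace.Opens.coe_iSup]
    exact isClosed_iUnion_of_finite hcl
  · intro w i hwu hwx
    obtain ⟨k, -, hk⟩ := h4 w i hwu hwx
    rw [TopologicalSpace.Opens.mem_iSup]
    exact ⟨k, hk⟩

end Groth.Agent.Lib.Helper6.EtLoc
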