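import Mathlib
import Groth.Agent.Lib.Helper6.EtLoc.ProdIdem
import Groth.Agent.Lib.Helper6.UnramSplit3

/-!
# Étale-local splitting of an étale algebra at a prime
-/

set_option autoImplicit false
set_option linter.unusedSectionVars false
universe u

open TensorProduct

namespace Groth.Agent.Lib.Helper6.EtLoc

/-- A factor of an étale algebra in a product decomposition is étale. -/
theorem etale_factor {R' T C : Type u} [CommRing R'] [CommRing T] [CommRing C] [Algebra R' T]
    [Algebra R' C] {n : ℕ} {A : Fin n → Type u} [∀ k, CommRing (A k)] [∀ k, Algebra R' (A k)]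
    (e : T ≃ₐ[R'] (∀ k, A k) × C) [Algebra.Etale R' T] (k : Fin n) : Algebra.Etale R' (A k) := by
  let _ : Algebra T (A k) := (projA e k).toRingHom.toAlgebra
  have hst : IsScalarTower R' T (A k) :=
    IsScalarTower.of_algebraMap_eq fun r => ((projA e k).commutes r).symm
  have hloc : IsLocalization.Away (idem e k) (A k) := isLocalization_projA e k
  have : Algebra.Etale T (A k) := Algebra.Etale.of_isLocalizationAway (idem e k)
  exact Algebra.Etale.comp R' T (A k)

/-- A surjective étale algebra map is a localization at an idempotent. -/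
theorem exists_idem_of_surjective_etale (R' A : Type u) [CommRing R'] [CommRing A] [Algebra R' A]
    [Algebra.Etale R' A] (hsurj : Function.Surjective (algebraMap R' A)) :
    ∃ ε : R', IsIdempotentElem ε ∧ RingHom.ker (algebraMap R' A) = Ideal.span {ε} ∧
      IsLocalization.Away (1 - ε) A := by
  have hfg : (RingHom.ker (Algebra.ofId R' A).toRingHom).FG :=
    Algebra.FinitePresentation.ker_fG_of_surjective (Algebra.ofId R' A) hsurj
  obtain ⟨ε, hε, hker⟩ := (Ideal.isIdempotentElem_iff_of_fg _ hfg).mp
    ((Algebra.FormallyEtale.iff_of_surjective hsurj).mp inferInstance)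
  refine ⟨ε, hε, hker, ?_⟩
  exact IsLocalization.away_of_isIdempotentElem hε.one_sub (hker.trans (by simp)) hsurj

/-- Base change of a product decomposition. -/
noncomputable def splitBaseChange (R R' R'' B : Type u) [CommRing R] [CommRing R'] [CommRing R'']
    [CommRing B] [Algebra R B] [Algebra R R'] [Algebra R' R''] [Algebra R R'']
    [IsScalarTower R R' R''] {n : ℕ} (A : Fin n → Type u) [∀ k, CommRing (A k)]
    [∀ k, Algebra R' (A k)] (C : Type u) [CommRing C] [Algebra R' C]
    (e : R' ⊗[R] B ≃ₐ[R'] (∀ k, A k) × C) :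
    R'' ⊗[R] B ≃ₐ[R''] (∀ k, R'' ⊗[R'] A k) × (R'' ⊗[R'] C) :=
  ((Algebra.TensorProduct.cancelBaseChange R R' R'' R'' B).symm.trans
    (Algebra.TensorProduct.congr AlgEquiv.refl e)).trans
    ((Algebra.TensorProduct.prodRight R' R'' R'' (∀ k, A k) C).trans
      (AlgEquiv.prodCongr (Algebra.TensorProduct.piRight R' R'' R'' A) AlgEquiv.refl))

/-- The remainder has no primes over the base-changed prime. -/
theorem noPrime_baseChange (R' R'' C : Type u) [CommRing R'] [CommRing R''] [CommRing C]
    [Algebra R' R''] [Algebra R' C] (p' : Ideal R') (p'' : Ideal R'')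
    (hp : p''.comap (algebraMap R' R'') = p')
    (hC : ∀ (q : Ideal C) [q.IsPrime], q.comap (algebraMap R' C) ≠ p')
    (q : Ideal (R'' ⊗[R'] C)) [hq : q.IsPrime] :
    q.comap (algebraMap R'' (R'' ⊗[R'] C)) ≠ p'' := by
  intro hqp
  apply hC (q.comap (Algebra.TensorProduct.includeRight : C →ₐ[R'] R'' ⊗[R'] C).toRingHom)
  have h1 : (q.comap (Algebra.TensorProduct.includeRight : C →ₐ[R'] R'' ⊗[R'] C).toRingHom).comap
      (algebraMap R' C) = (q.comap (algebraMap R'' (R'' ⊗[R'] C))).comap (algebraMap R' R'') := by
    rw [Ideal.comap_comap, Ideal.comap_comap]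
    congr 1
    ext r
    simp [Algebra.algebraMap_eq_smul_one]
  rw [h1, hqp, hp]

theorem etale_split (R B : Type u) [CommRing R] [CommRing B] [Algebra R B] [Algebra.Etale R B]
    (p : Ideal R) [p.IsPrime] :
    ∃ (R'' : Type u) (_ : CommRing R'') (_ : Algebra R R'') (_ : Algebra.Etale R R'')
      (p'' : Ideal R'') (_ : p''.IsPrime) (_ : p''.LiesOver p) (n : ℕ) (A : Fin n → Type u)
      (_ : ∀ i, CommRing (A i)) (_ : ∀ i, Algebra R'' (A i)) (C : Type u) (_ : CommRing C)
      (_ : Algebra R'' C),
      Nonempty ((R'' ⊗[R] B) ≃ₐ[R''] ((∀ i, A i) × C)) ∧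
        (∀ i, Function.Bijective (algebraMap R'' (A i))) ∧
        ∀ (q : Ideal C) [q.IsPrime], q.comap (algebraMap R'' C) ≠ p'' := by
  classical
  have hun : Algebra.Unramified R B := {}
  obtain ⟨R', _, _, _, p', hp', hp'p, n, A, _, _, C, _, _, ⟨e⟩, hA, hC⟩ :=
    UnramSplit.main9449 R B p
  have hetA : ∀ k, Algebra.Etale R' (A k) := fun k => etale_factor e k
  have hex : ∀ k, ∃ ε : R', IsIdempotentElem ε ∧
      RingHom.ker (algebraMap R' (A k)) = Ideal.span {ε} ∧ IsLocalization.Away (1 - ε) (A k) :=
    fun k => exists_idem_of_surjective_etale R' (A k) (hA k).1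
  choose ε hε hker hloc using hex
  have hεp : ∀ k, ε k ∈ p' := by
    intro k
    have h1 : ε k ∈ RingHom.ker (algebraMap R' (A k)) := by
      rw [hker k]; exact Ideal.mem_span_singleton_self _
    rw [← (hA k).2.2, Ideal.mem_comap, RingHom.mem_ker.mp h1]
    exact Ideal.zero_mem _
  have h1ε : ∀ k, 1 - ε k ∉ p' := by
    intro k h
    apply hp'.ne_top
    rw [Ideal.eq_top_iff_one]
    have := p'.add_mem h (hεp k)
    simpa using this
  let h : R' := ∏ k, (1 - ε k)
  have hh : h ∉ p' := by
    intro hmem
    obtain ⟨k, -, hk⟩ := (Ideal.IsPrime.prod_mem_iff (hp := hp')).mp hmem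
    exact h1ε k hk
  have hdisj : Disjoint (Submonoid.powers h : Set R') (p' : Set R') := by
    rw [Ideal.disjoint_powers_iff_notMem_of_isPrime]; exact hh
  have hetR'' : Algebra.Etale R (Localization.Away h) :=
    Algebra.Etale.comp R R' (Localization.Away h)
  have hp'' : (p'.map (algebraMap R' (Localization.Away h))).IsPrime :=
    IsLocalization.isPrime_of_isPrime_disjoint (Submonoid.powers h) _ _ hp' hdisj
  have hp''p' : (p'.map (algebraMap R' (Localization.Away h))).LiesOver p' :=
    IsLocalization.liesOver_map_of_isPrime_disjoint (Submonoid.powers h) _ hdisj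
  have hp''p : (p'.map (algebraMap R' (Localization.Away h))).LiesOver p :=
    Ideal.LiesOver.trans (p'.map (algebraMap R' (Localization.Away h))) p' p
  refine ⟨Localization.Away h, inferInstance, inferInstance, hetR'',
    p'.map (algebraMap R' (Localization.Away h)), hp'', hp''p, n,
    fun k => Localization.Away h ⊗[R'] A k, inferInstance, inferInstance,
    Localization.Away h ⊗[R'] C, inferInstance,
    inferInstance, ⟨splitBaseChange R R' (Localization.Away h) B A C e⟩, ?_, ?_⟩
  · intro k
    have hloc1 : IsLocalization (Submonoid.powers (1 - ε k)) (A k) := hloc k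
    have hloc2 : IsLocalization (Algebra.algebraMapSubmonoid (Localization.Away h)
        (Submonoid.powers (1 - ε k))) (Localization.Away h ⊗[R'] A k) := inferInstance
    have hunits : Algebra.algebraMapSubmonoid (Localization.Away h)
        (Submonoid.powers (1 - ε k)) ≤ IsUnit.submonoid (Localization.Away h) := by
      rintro _ ⟨_, ⟨m, rfl⟩, rfl⟩
      show IsUnit (algebraMap R' (Localization.Away h) ((1 - ε k) ^ m))
      rw [map_pow]
      refine IsUnit.pow m ?_
      have hdvd : (1 - ε k) ∣ h := Finset.dvd_prod_of_mem _ (Finset.mem_univ k)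
      exact isUnit_of_dvd_unit (map_dvd (algebraMap R' (Localization.Away h)) hdvd)
        (IsLocalization.Away.algebraMap_isUnit h)
    exact (IsLocalization.atUnits (Localization.Away h)
      (Algebra.algebraMapSubmonoid (Localization.Away h)
      (Submonoid.powers (1 - ε k))) (S := Localization.Away h ⊗[R'] A k) hunits).bijective
  · intro q hq
    exact noPrime_baseChange R' (Localization.Away h) C p' _ (hp''p'.over).symm hC q

end Groth.Agent.Lib.Helper6.EtLoc
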