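import Mathlib
import Groth.Agent.Lib.Helper6.EtLoc.UnramPoint
import Groth.Agent.Lib.Helper6.EtLoc.EtSplit

/-!
# Étale localization at an étale point
-/

set_option autoImplicit false
set_option linter.unusedSectionVars false
universe u

open CategoryTheory Limits AlgebraicGeometry TensorProduct

namespace Groth.Agent.Lib.Helper6.EtLoc

theorem etale_point {X S : Scheme.{u}} (f : X ⟶ S) (x₀ : X) (W : X.Opens) (hx₀ : x₀ ∈ W)
    (het : Etale (W.ι ≫ f)) :
    ∃ (U : Scheme.{u}) (g : U ⟶ S) (u : U), Etale g ∧ g u = f x₀ ∧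
      NbhdData (MorphismProperty.isomorphisms Scheme.{u}) f x₀ g u := by
  obtain ⟨R, B₀, _, _, _, jS, jX₀, _, _, hcomm₀, q₀, hq₀x, -, hprop, -⟩ :=
    exists_chart_data f x₀ W hx₀
  have hetB₀ : Algebra.Etale R B₀ :=
    RingHom.etale_algebraMap.mp (hprop @Etale _ het)
  have hqf : Algebra.QuasiFinite R B₀ := inferInstance
  have hq₀p : q₀.asIdeal.IsPrime := q₀.isPrime
  obtain ⟨b, hbq, hiso⟩ := exists_isolating R B₀ q₀.asIdeal
  obtain ⟨jX, _, hcomm, hq, hjq, -⟩ := away_chart f R B₀ jS jX₀ hcomm₀ q₀ b hbq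
  have hp : (q₀.asIdeal.comap (algebraMap R B₀)).IsPrime := inferInstance
  have hetB : Algebra.Etale R (Localization.Away b) := inferInstance
  obtain ⟨R', _, _, _, p', hp', hp'p, n, A, _, _, C, _, _, ⟨e⟩, hA, hC⟩ :=
    etale_split R (Localization.Away b) (q₀.asIdeal.comap (algebraMap R B₀))
  have hp'under : p'.comap (algebraMap R R') = q₀.asIdeal.comap (algebraMap R B₀) :=
    (hp'p.over).symm
  refine ⟨Spec (.of R'), baseMap R R' jS, (⟨p', hp'⟩ : PrimeSpectrum R'),
    etale_baseMap R R' jS, ?_, ?_⟩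
  · rw [baseMap_apply, ← hq₀x]
    have h1 : f (jX₀ q₀) = jS ((Spec.map (CommRingCat.ofHom (algebraMap R B₀))) q₀) := by
      have := congrArg (fun φ : Spec (.of B₀) ⟶ S => φ q₀) hcomm₀
      exact this.symm
    rw [h1]
    congr 1
    apply PrimeSpectrum.ext
    exact hp'under
  · rw [← hq₀x, ← hjq]
    refine nbhdData_of_decomp (MorphismProperty.isomorphisms Scheme.{u}) f R
      (Localization.Away b) R' jS jX hcomm p'
      (q₀.asIdeal.map (algebraMap B₀ (Localization.Away b))) ?_ A C e ?_ ?_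
    · intro q' hq' hq'c
      exact isolated_away R B₀ q₀.asIdeal b hbq hiso q' hq' (hq'c.trans hp'under)
    · intro k
      have hiso1 : IsIso (CommRingCat.ofHom (algebraMap R' (A k))) :=
        (ConcreteCategory.isIso_iff_bijective (CommRingCat.ofHom (algebraMap R' (A k)))).mpr (hA k)
      have hiso2 : IsIso (Spec.map (CommRingCat.ofHom (algebraMap R' (A k)))) := inferInstance
      refine ⟨hiso2, ?_⟩
      let E : R' ≃+* A k := RingEquiv.ofBijective (algebraMap R' (A k)) (hA k)
      refine ⟨p'.map E, Ideal.map_isPrime_of_equiv E, ?_⟩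
      have : p'.map E = p'.map (algebraMap R' (A k)) := rfl
      rw [this, Ideal.comap_map_of_bijective _ (hA k)]
    · intro y hy
      exact hC y

end Groth.Agent.Lib.Helper6.EtLoc
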