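import Mathlib

/-!
# Isolated points of fibres and quasi-finiteness; fibres under elementary base change
-/

set_option autoImplicit false
set_option linter.unusedSectionVars false
universe u

open CategoryTheory Limits AlgebraicGeometry

namespace Groth.Agent.Lib.Helper6.EtLoc

theorem isOpen_singleton_fiber_iff_aux {X S : Scheme.{u}} (f : X ⟶ S) [LocallyOfFiniteType f]
    (s : S) (x : X) (hx : f x = s) (z : f.fiber s) (hzx : f.fiberι s z = x) :
    IsOpen ({z} : Set ↑(f.fiber s)) ↔ f.QuasiFiniteAt x := by
  subst hx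
  have : z = f.asFiber x :=
    (f.fiberι (f x)).isEmbedding.injective (by rw [hzx, Scheme.Hom.fiberι_asFiber])
  rw [this, Scheme.Hom.quasiFiniteAt_iff_isOpen_singleton_asFiber]

/-- A point of the fibre is isolated iff the morphism is quasi-finite at it. -/
theorem isOpen_singleton_fiber_iff {X S : Scheme.{u}} (f : X ⟶ S) [LocallyOfFiniteType f]
    (s : S) (z : f.fiber s) :
    IsOpen ({z} : Set ↑(f.fiber s)) ↔ f.QuasiFiniteAt (f.fiberι s z) := by
  have hx : f (f.fiberι s z) = s := by
    have : f.fiberι s z ∈ Set.range (f.fiberι s) := ⟨z, rfl⟩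
    rw [Scheme.Hom.range_fiberι] at this
    exact this
  exact isOpen_singleton_fiber_iff_aux f s _ hx z rfl

/-- The comparison of fibres under base change. -/
theorem exists_fiber_homeo {X S U : Scheme.{u}} (f : X ⟶ S) (g : U ⟶ S) (u : U)
    [IsIso (g.residueFieldMap u)] :
    ∃ τ : (pullback.snd f g).fiber u ⟶ f.fiber (g u), IsIso τ ∧
      τ ≫ f.fiberι (g u) = (pullback.snd f g).fiberι u ≫ pullback.fst f g := by
  have h := isPullback_fiberToSpecResidueField_of_isPullback (IsPullback.of_hasPullback f g) u
  refine ⟨_, h.isIso_fst_of_isIso, ?_⟩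
  exact pullback.lift_fst _ _ _

end Groth.Agent.Lib.Helper6.EtLoc
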