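import Mathlib

/-!
# Unramified schemes over a field
-/

set_option autoImplicit false
universe u

open CategoryTheory Limits AlgebraicGeometry

namespace Groth.Agent.Lib.Helper6.EtLoc

/-- Unramified morphisms are locally quasi-finite. -/
theorem locallyQuasiFinite_of_unramified {X Y : Scheme.{u}} (f : X ⟶ Y) [FormallyUnramified f]
    [LocallyOfFiniteType f] : LocallyQuasiFinite f := by
  rw [HasRingHomProperty.iff_appLE (P := @LocallyQuasiFinite)]
  intro U V e
  have h1 := (HasRingHomProperty.iff_appLE (P := @FormallyUnramified)).mp ‹_› U V e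
  have h2 := (HasRingHomProperty.iff_appLE (P := @LocallyOfFiniteType)).mp ‹_› U V e
  algebraize [(f.appLE U V e).hom]
  rw [← RingHom.algebraMap_toAlgebra (f.appLE U V e).hom, RingHom.quasiFinite_algebraMap]
  infer_instance

/-- A scheme unramified over a field is discrete. -/
theorem discreteTopology_of_unramified_field (k : Type u) [Field k] {X : Scheme.{u}}
    (f : X ⟶ Spec (CommRingCat.of k)) [FormallyUnramified f] [LocallyOfFiniteType f] :
    DiscreteTopology X := by
  have := locallyQuasiFinite_of_unramified f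
  have h := f.isDiscrete_preimage_singleton (show ↥(Spec (CommRingCat.of k)) from
    (default : PrimeSpectrum k))
  have h2 : f ⁻¹' {(show ↥(Spec (CommRingCat.of k)) from (default : PrimeSpectrum k))} =
      Set.univ := by
    ext x
    simp only [Set.mem_preimage, Set.mem_singleton_iff, Set.mem_univ, iff_true]
    exact Subsingleton.elim (α := PrimeSpectrum k) _ _
  rw [h2] at h
  exact isDiscrete_univ_iff.mp h

/-- A reduced ring with exactly one prime ideal is a field. -/
theorem isField_of_unique_prime (A : Type*) [CommRing A] [IsReduced A] [Nontrivial A]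
    (h : ∀ p q : Ideal A, p.IsPrime → q.IsPrime → p = q) : IsField A := by
  by_contra hA
  obtain ⟨p, hp0, hp⟩ := Ring.not_isField_iff_exists_prime.mp hA
  apply hp0
  have h1 : nilradical A = ⊥ := nilradical_eq_bot_iff.mpr inferInstance
  rw [eq_bot_iff, ← h1, nilradical_eq_sInf]
  apply le_sInf
  intro q hq
  rw [h p q hp hq]

/-- The one-point pieces of a scheme unramified over a field. -/
theorem exists_field_piece (k : Type u) [Field k] {X : Scheme.{u}}
    (f : X ⟶ Spec (CommRingCat.of k)) [FormallyUnramified f] [LocallyOfFiniteType f] (x : X) :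
    ∃ (A : CommRingCat.{u}) (j : Spec A ⟶ X) (φ : CommRingCat.of k ⟶ A), IsOpenImmersion j ∧
      Set.range j = {x} ∧ Spec.map φ = j ≫ f ∧ IsField A ∧ φ.hom.FiniteType ∧
      φ.hom.FormallyUnramified := by
  have hdisc := discreteTopology_of_unramified_field k f
  obtain ⟨_, ⟨V, hVm, rfl⟩, hxV, hVx⟩ := X.isBasis_affineOpens.exists_subset_of_mem_open
    (Set.mem_singleton x) (isOpen_discrete ({x} : Set X))
  have hV : IsAffineOpen V := hVm
  have hVeq : (V : Set X) = {x} := Set.Subset.antisymm hVx (Set.singleton_subset_iff.mpr hxV)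
  let φ : CommRingCat.of k ⟶ Γ(X, V) := Spec.preimage (hV.fromSpec ≫ f)
  have hφ : Spec.map φ = hV.fromSpec ≫ f := Spec.map_preimage _
  have hun : FormallyUnramified (Spec.map φ) := by
    rw [hφ]
    have h1 : FormallyUnramified hV.fromSpec := inferInstance
    exact MorphismProperty.comp_mem _ _ _ h1 ‹_›
  have hft : LocallyOfFiniteType (Spec.map φ) := by
    rw [hφ]; infer_instance
  have hun' : φ.hom.FormallyUnramified := HasRingHomProperty.Spec_iff.mp hun
  have hft' : φ.hom.FiniteType := HasRingHomProperty.Spec_iff.mp hft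
  refine ⟨Γ(X, V), hV.fromSpec, φ, inferInstance, ?_, hφ, ?_, hft', hun'⟩
  · rw [hV.range_fromSpec, hVeq]
  · algebraize [φ.hom]
    have : IsReduced Γ(X, V) := Algebra.FormallyUnramified.isReduced_of_field k Γ(X, V)
    have hne : Nonempty (PrimeSpectrum Γ(X, V)) := by
      have : x ∈ Set.range hV.fromSpec := by rw [hV.range_fromSpec]; exact hxV
      obtain ⟨p, -⟩ := this
      exact ⟨p⟩
    have : Nontrivial Γ(X, V) := (PrimeSpectrum.nonempty_iff_nontrivial).mp hne
    apply isField_of_unique_prime
    intro p q hp hq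
    have h1 : hV.fromSpec (⟨p, hp⟩ : PrimeSpectrum Γ(X, V)) =
        hV.fromSpec (⟨q, hq⟩ : PrimeSpectrum Γ(X, V)) := by
      have hp' : hV.fromSpec (⟨p, hp⟩ : PrimeSpectrum Γ(X, V)) ∈ (V : Set X) := by
        rw [← hV.range_fromSpec]; exact ⟨_, rfl⟩
      have hq' : hV.fromSpec (⟨q, hq⟩ : PrimeSpectrum Γ(X, V)) ∈ (V : Set X) := by
        rw [← hV.range_fromSpec]; exact ⟨_, rfl⟩
      rw [hVeq] at hp' hq'
      rw [Set.mem_singleton_iff.mp hp', Set.mem_singleton_iff.mp hq']
    have h2 := hV.fromSpec.isOpenEmbedding.injective h1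
    exact congrArg PrimeSpectrum.asIdeal h2

end Groth.Agent.Lib.Helper6.EtLoc
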